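import Groth.Agent.Surf.K379.Final

set_option autoImplicit false
universe u
open CategoryTheory CategoryTheory.Limits AlgebraicGeometry Opposite TopologicalSpace
open MonoidalCategory CartesianMonoidalCategory

namespace K379.Final

open Groth.Agent Groth.Agent.Grpsch.PicGrp K856.PicA K379.Fib K379.FibSmo K464.Base K464.Curves K464.Cohom

variable {k : Type u} [Field k] [IsAlgClosed k] {X C : Scheme.{u}} [X.Over (Spec (CommRingCat.of k))]
  [C.Over (Spec (CommRingCat.of k))] {f : X ⟶ C} {g : ℕ}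

/-- The dichotomy. -/
theorem main [CharZero k] [LocallyOfFinitePresentation f] [IsProper (X ↘ Spec (CommRingCat.of k))]
    (E1a : Subsingleton (Coh.HH X (Coh.structureModule X) 2) →
      ∀ (A : Over (Spec (CommRingCat.of k))) [GrpObj A] [IsProper A.hom] [Smooth A.hom] [ConnectedSpace A.left]
      (ψ : X ⟶ A.left) (_ : ψ ≫ A.hom = X ↘ Spec (CommRingCat.of k)), topologicalKrullDim (Set.range ψ) ≤ 1)
    (h : IsFib k f g) (hC0 : Curv2.genus k C = 0) (hg1 : 1 ≤ g)
    (hmin : ∀ E : X.IdealSheafData, IsIntegral E.subscheme → topologicalKrullDim (E.support : Set X) = 1 →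
      (∃ c : C, ∀ x : X, x ∈ E.support → f.base x = c) → Curv2.euler k X (ClSub.quotMod E) = 1 →
      FGA.intNum k X 2 ![ClSub.idealMod E, ClSub.idealMod E] (Coh.structureModule X) ≠ -1)
    (hnt : ¬ ∃ (F : Scheme.{u}) (q : F ⟶ (Spec (CommRingCat.of k))) (e : X ≅ pullback q (C ↘ (Spec (CommRingCat.of k)))),
      e.hom ≫ pullback.snd q (C ↘ (Spec (CommRingCat.of k))) = f) :
    4 ≤ Set.ncard {c : C | IsClosed ({c} : Set C) ∧ ¬ Smooth (f.fiberToSpecResidueField c)} := by
  have i2 := h.sX
  have i3 := h.iX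
  have hX := K456.AmpleEx.exists_ample k X h.dX
  have hmin' : Min k f := by
    intro E hE hEe hv hE1 hdot
    refine hmin E hE.integral hE.dim hv hE1 ?_
    have hI := Dix.IdealModCartier.isInvertible_idealMod hEe
    rw [intNum_eq_dot k X h.dX.le hI hI]
    exact hdot
  obtain ⟨D⟩ := nonempty_pz k X hX
  obtain ⟨q, hq, -⟩ := D.exists_dim
  have hle := FibSm.dim_le_genus h hC0 D
  rw [hq] at hle
  have hle' : q ≤ g := by exact_mod_cast hle
  rcases hle'.lt_or_eq with hlt | heq
  · exact four_le h hC0 D hq hlt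
  · exact absurd (product E1a h hC0 hg1 hmin' hX D (by rw [hq, heq])) hnt

end K379.Final
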