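import Groth.Prelude.Def_Coh
import Groth.Prelude.Def_Pic
import Groth.Prelude.Def_CohB1
import Groth.Prelude.Def_CurvBase
import Groth.Prelude.Def_ClSub2
import Groth.Prelude.Def_FGA
import Groth.Prelude.Def_Omega2
import Groth.Prelude.Def_ExtPow2
import Groth.Prelude.Def_Curve
import Groth.Prelude.Def_Curv2
import Mathlib.AlgebraicGeometry.Morphisms.Proper
import Mathlib.AlgebraicGeometry.Morphisms.Smooth
import Mathlib.AlgebraicGeometry.IdealSheaf.Subscheme
import Mathlib.AlgebraicGeometry.Fiber
import Mathlib.Data.Set.Card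

/-!
# Semistable fibrations of surfaces: the hypotheses, vertical curves, singular points of fibres
-/

set_option autoImplicit false
universe u
open CategoryTheory CategoryTheory.Limits AlgebraicGeometry TopologicalSpace

namespace K379.Fib

/-- `f : X ⟶ C` is a semistable fibration of genus `g` of a smooth proper surface over a smooth proper curve. -/
structure IsFib (k : Type u) [Field k] {X C : Scheme.{u}} [X.Over (Spec (CommRingCat.of k))]
    [C.Over (Spec (CommRingCat.of k))] (f : X ⟶ C) (g : ℕ) : Prop where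
  pX : IsProper (X ↘ Spec (CommRingCat.of k))
  sX : Smooth (X ↘ Spec (CommRingCat.of k))
  iX : IsIntegral X
  dX : topologicalKrullDim X = 2
  pC : IsProper (C ↘ Spec (CommRingCat.of k))
  sC : Smooth (C ↘ Spec (CommRingCat.of k))
  iC : IsIntegral C
  dC : topologicalKrullDim C = 1
  ovr : f ≫ (C ↘ Spec (CommRingCat.of k)) = X ↘ Spec (CommRingCat.of k)
  sur : Surjective f
  conn : IsIso (ClSub.unitToPush f)
  nod : Curv2.IsNodalFamily f
  fib : ∃ q₀ : C, IsClosed ({q₀} : Set C) ∧ Smooth (f.fiberToSpecResidueField q₀) ∧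
    Curv2.euler k X (ClSub.quotMod (f.fiberι q₀).ker) = 1 - (g : ℤ)

/-- The integral curves contained in the fibre over `s`. -/
def vc {X C : Scheme.{u}} (f : X ⟶ C) (s : C) : Set X.IdealSheafData :=
  {D | IsIntegral D.subscheme ∧ topologicalKrullDim (D.support : Set X) = 1 ∧ (D.support : Set X) ⊆ f ⁻¹' {s}}

/-- The points over `s` at which `f` is not smooth. -/
def sg {X C : Scheme.{u}} (f : X ⟶ C) [LocallyOfFinitePresentation f] (s : C) : Set X := {x | f x = s ∧ x ∉ (f.smoothLocus : Set X)}

end K379.Fib
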