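import Groth.Agent.Surf.K379.FibSm
import Groth.Agent.Surf.K580.FibMain
import Groth.Agent.Surf.K458.FibCurve
import Groth.Agent.Surf.K993.Vert
import Groth.Agent.Biell.K856.PicA3

/-!
# A component of a fibre which dominates the Albanese curve

`f : X ⟶ C` a semistable fibration over a rational curve, `θ : X ⟶ E` a morphism to a curve such that every class of
`Pic⁰ X` is pulled back from `E`, and `dim Pic⁰ X ≥ 1`. Then every closed fibre of `f` has a component dominating `E`.
-/

set_option autoImplicit false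
universe u
open CategoryTheory CategoryTheory.Limits AlgebraicGeometry Opposite TopologicalSpace
open MonoidalCategory CartesianMonoidalCategory

namespace K379.FibDom

open Groth.Agent Groth.Agent.Grpsch.PicGrp Groth.Agent.Pic13.H138.AlgEquiv K856.PicA K379.Fib K464.Base K464.Curves
  K464.PtCurve K464.FibCurve K464.DivLat K993

variable {k : Type u} [Field k] [IsAlgClosed k] {X C : Scheme.{u}} [X.Over (Spec (CommRingCat.of k))]
  [C.Over (Spec (CommRingCat.of k))] {f : X ⟶ C} {g : ℕ}

section
open MonObj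

theorem infinite_points [CharZero k] [IsProper (X ↘ Spec (CommRingCat.of k))] [Smooth (X ↘ Spec (CommRingCat.of k))]
    (D : PZ k X) (hg : topologicalKrullDim D.A.left = g) (hg1 : 1 ≤ g) :
    Infinite (𝟙_ (Over (Spec (CommRingCat.of k))) ⟶ D.A) := by
  by_contra hfin
  rw [not_infinite_iff_finite] at hfin
  have hfin' : Finite (alg0 k X) := Finite.of_equiv _ D.θEquiv.toEquiv
  let M := Nat.card (alg0 k X)
  have h1 := D.card_alg0 g hg (M + 1) (by exact_mod_cast Nat.succ_ne_zero M)
  have h2 : Nat.card {a : alg0 k X // a ^ (M + 1) = 1} ≤ M := Nat.card_le_card_of_injective _ Subtype.val_injective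
  rw [h1] at h2
  have h3 : M + 1 ≤ (M + 1) ^ (2 * g) := Nat.le_self_pow (by omega) _
  omega

end

theorem pull_eq_one_of_const {Y Z : Scheme.{u}} (φ : Y ⟶ Z) (z : Z) (hz : ∀ y, φ y = z) (c : Pic Z) : pull φ c = 1 := by
  obtain ⟨L, hL, rfl⟩ := exists_mk c
  rw [pull_mk, mk_eq_one_iff]
  exact K458.FibCurve.nonempty_pullback_iso_of_const φ z hz L hL

theorem exists_curve [CharZero k] [LocallyOfFinitePresentation f] (h : IsFib k f g) (hC0 : Curv2.genus k C = 0)
    (D : PZ k X) (hq : topologicalKrullDim D.A.left = g) (hg1 : 1 ≤ g) {E : Scheme.{u}} [E.Over (Spec (CommRingCat.of k))]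
    (hE : Curve.IsSmoothProperCurve k E (E ↘ Spec (CommRingCat.of k))) (θ : X ⟶ E)
    (halg : ∀ c ∈ alg0 k X, ∃ d : Pic E, pull θ d = c) {s : C} (hs : IsClosed ({s} : Set C)) :
    ∃ Γ ∈ vc f s, IsDominant (Γ.subschemeι ≫ θ) := by
  have i1 := h.pX
  have i2 := h.sX
  have i3 := h.iX
  have i4 := h.pC
  have i5 := h.sC
  have i6 := h.iC
  have i7 := h.sur
  have hdom : IsDominant f := ⟨i7.surj.denseRange⟩
  obtain ⟨hEp, hEs, hEi, hEd⟩ := hE
  by_contra hcon
  push Not at hcon
  obtain ⟨J, _, N, n, hN, hcov, -⟩ := K580.FibMain.fibre k f g h s hs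
  obtain ⟨r, Cu, m, hCE, hC, hinj, hm, hF, -, -⟩ := K458.FibZar.exists_decomp k f h.ovr h.dX h.dC h.conn hs
  have hvc : ∀ j, Cu j ∈ vc f s := fun j => by
    refine ⟨(hC j).integral, (hC j).dim, ?_⟩
    rw [← K458.FibZar.support_fibre f hs, hF, support_subset_iff (hC j), gp_mem_support_cyc_iff hC hinj]
    exact (hm j).ne'
  -- the curves `N i` are contracted by `θ`
  have key : ∀ i, ∃ e : E, ∀ y : N i, (n i ≫ θ) y = e := by
    intro i
    have hint := (hN i).2.2.1
    let x : X := n i (genericPoint (N i))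
    have hx : x ∈ ((pt hs).comap f).support := by
      have h1 : f x = s := (hcov x).2 ⟨i, _, rfl⟩
      change x ∈ (((pt hs).comap f).support : Set X)
      rw [K458.FibZar.support_fibre f hs]
      exact h1
    rw [hF] at hx
    obtain ⟨j, hj⟩ := Set.mem_iUnion.1 (support_cyc_subset (C := Cu) m hx)
    have hne : θ x ≠ genericPoint E := by
      intro heq
      refine hcon (Cu j) (hvc j) ⟨?_⟩
      rw [← Scheme.IdealSheafData.range_subschemeι] at hj
      obtain ⟨y, hy⟩ := hj
      have h2 : (Cu j).subschemeι ≫ θ = (Cu j).subschemeι ≫ θ := rfl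
      have h3 : ((Cu j).subschemeι ≫ θ) y = genericPoint E := by
        rw [Scheme.Hom.comp_apply, hy, heq]
      rw [DenseRange, dense_iff_closure_eq]
      refine Set.eq_univ_of_univ_subset ?_
      rw [← (genericPoint_spec E).def]
      exact closure_mono (Set.singleton_subset_iff.2 ⟨y, h3⟩)
    have hcl : IsClosed ({θ x} : Set E) := isClosed_of_ne hEd hne
    refine ⟨θ x, fun y => ?_⟩
    have h4 : genericPoint (N i) ⤳ y := genericPoint_specializes y
    have h5 := h4.map (n i ≫ θ).continuous
    rw [Scheme.Hom.comp_apply, Scheme.Hom.comp_apply] at h5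
    have h6 := h5.mem_closed hcl rfl
    exact h6
  have hfin := FibE.finite_ker h hC0 D s N n hN (fun x hx => (hcov x).1 hx)
  have huniv : {a : 𝟙_ (Over (Spec (CommRingCat.of k))) ⟶ D.A | ∀ i, pull (n i) (D.θ a) = 1} = Set.univ := by
    refine Set.eq_univ_of_forall fun a i => ?_
    obtain ⟨d, hd⟩ := halg _ (D.θ_mem a)
    obtain ⟨e, he⟩ := key i
    rw [← hd, ← pull_comp]
    exact pull_eq_one_of_const _ e he d
  rw [huniv] at hfin
  have := infinite_points D hq hg1
  exact Set.infinite_univ hfin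

end K379.FibDom
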