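import Groth.Agent.Biell.K856.Main3
import Groth.Agent.Surf.K379.FibDom
import Groth.Agent.Grpsch.MulFin

/-!
# The Albanese curve of a surface with `p_g = 0`
-/

set_option autoImplicit false
universe u
open CategoryTheory CategoryTheory.Limits AlgebraicGeometry Opposite TopologicalSpace
open MonoidalCategory CartesianMonoidalCategory

namespace K379.AlbCurve

open Groth.Agent Groth.Agent.Grpsch.PicGrp Groth.Agent.Pic13.H138.AlgEquiv K856.PicA K856.Alb K464.Base K464.Curves

variable (k : Type u) [Field k] [IsAlgClosed k] [CharZero k] (X : Scheme.{u}) [X.Over (Spec (CommRingCat.of k))]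
    [IsProper (X ↘ Spec (CommRingCat.of k))] [Smooth (X ↘ Spec (CommRingCat.of k))] [IsIntegral X]

theorem exists_albCurve
    (E1a : ∀ (A : Over (Spec (CommRingCat.of k))) [GrpObj A] [IsProper A.hom] [Smooth A.hom] [ConnectedSpace A.left]
      (ψ : X ⟶ A.left) (_ : ψ ≫ A.hom = X ↘ Spec (CommRingCat.of k)), topologicalKrullDim (Set.range ψ) ≤ 1)
    (D : PZ k X) {g : ℕ} (hg : topologicalKrullDim D.A.left = g) (hg1 : 1 ≤ g) :
    ∃ (E : Scheme.{u}) (_ : E.Over (Spec (CommRingCat.of k))) (θ : X ⟶ E),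
      θ ≫ (E ↘ Spec (CommRingCat.of k)) = X ↘ Spec (CommRingCat.of k) ∧
      Curve.IsSmoothProperCurve k E (E ↘ Spec (CommRingCat.of k)) ∧ (∀ U, IsIso (θ.app U)) ∧
      ∀ c ∈ alg0 k X, ∃ d : Pic E, pull θ d = c := by
  let _ : D.A.left.Over (Spec (CommRingCat.of k)) := ⟨D.A.hom⟩
  have hAp : IsProper (D.A.left ↘ Spec (CommRingCat.of k)) := D.isProper
  have hAp' : IsProper D.A.hom := D.isProper
  have hAs : Smooth (D.A.left ↘ Spec (CommRingCat.of k)) := inferInstanceAs (Smooth D.A.hom)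
  have hgi : GeometricallyIntegral D.A.hom := geometricallyIntegral k D.A.left D.A.hom
  obtain ⟨M, hM, -⟩ := Grpsch.MulFin.exists_symm_ample D.A
  obtain ⟨D'⟩ := nonempty_pz k D.A.left ⟨M, hM⟩
  obtain ⟨ψ, hψ⟩ := exists_alb D D'
  have hBp : IsProper D'.A.hom := D'.isProper
  have hw : ψ.left ≫ D'.A.hom = X ↘ Spec (CommRingCat.of k) := Over.w ψ
  have hdim := E1a D'.A ψ.left hw
  have hψp : IsProper ψ.left := by
    have : IsProper (ψ.left ≫ D'.A.hom) := by rw [hw]; infer_instance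
    exact IsProper.of_comp ψ.left D'.A.hom
  let B : Over (Spec (CommRingCat.of k)) := Over.mk (ψ.left.ker.subschemeι ≫ D'.A.hom)
  have hBB : IsProper B.hom := inferInstanceAs (IsProper (ψ.left.ker.subschemeι ≫ D'.A.hom))
  let ψ' : ov k X ⟶ B := Over.homMk ψ.left.toImage (by
    change ψ.left.toImage ≫ ψ.left.ker.subschemeι ≫ D'.A.hom = _
    have h1 : ψ.left.toImage ≫ ψ.left.ker.subschemeι = ψ.left := ψ.left.toImage_imageι
    rw [← Category.assoc, h1]
    exact hw)
  have hdB : topologicalKrullDim B.left ≤ 1 := by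
    have h1 : topologicalKrullDim ψ.left.ker.subscheme = topologicalKrullDim (ψ.left.ker.support : Set D'.A.left) :=
      CycA.IntLocal.dim_subscheme _
    change topologicalKrullDim ψ.left.ker.subscheme ≤ 1
    rw [h1, Scheme.Hom.support_ker, ψ.left.isClosedMap.isClosed_range.closure_eq]
    exact hdim
  have hne : ∃ c ∈ alg0 k X, c ≠ 1 := by
    by_contra hcon
    push Not at hcon
    have := FibDom.infinite_points D hg hg1
    have hs : Subsingleton (𝟙_ (Over (Spec (CommRingCat.of k))) ⟶ D.A) := ⟨fun a b =>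
      D.θ_injective ((hcon _ (D.θ_mem a)).trans (hcon _ (D.θ_mem b)).symm)⟩
    exact not_finite (𝟙_ (Over (Spec (CommRingCat.of k))) ⟶ D.A)
  obtain ⟨E, hE, f, h1, h2, h3, h4⟩ := K856.Fib.exists_fib
    (Sga4B.SmoothNormal.isNormalScheme_of_smooth (X ↘ Spec (CommRingCat.of k))) hdB ψ' (fun c hc => by
      obtain ⟨d, hd⟩ := hψ c hc
      refine ⟨pull ψ.left.ker.subschemeι d, ?_⟩
      change pull ψ.left.toImage _ = c
      rw [← pull_comp]
      have h1 : ψ.left.toImage ≫ ψ.left.ker.subschemeι = ψ.left := ψ.left.toImage_imageι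
      rw [h1]
      exact hd) hne
  exact ⟨E, hE, f, h1, h2, h3, h4⟩

end K379.AlbCurve
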