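import Groth.Agent.Biell.K856.Alb
import Groth.Agent.Sga7.H496.SeeSaw

/-!
# Families of classes algebraically equivalent to zero, trivial on a generating family of curves

`D : PZ k X`, `F ⊆ X` a preconnected subset such that morphisms from `X` to proper groups contracting `F` are constant,
covered by the images of finitely many `n i : N i ⟶ X`. A curve `τ : T ⟶ A` in the Picard variety whose classes are all
trivial on the `N i` is constant.
-/

set_option autoImplicit false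
set_option linter.unusedSectionVars false
universe u
open CategoryTheory CategoryTheory.Limits AlgebraicGeometry Opposite
open MonoidalCategory CartesianMonoidalCategory MonObj

namespace K379.Core

open Groth.Agent
open Groth.Agent.Grpsch.PicGrp Groth.Agent.Fga.RigGrp
open Groth.Agent.Books.AlgPts Groth.Agent.Books.AlgPtsGrp
open Groth.Agent.Pic13.H138.Slice Groth.Agent.Pic13.H138.AlgEquiv K856.PicA K856.Alb

variable {k : Type u} [Field k] [IsAlgClosed k]

local notation "Sk" => Spec (CommRingCat.of k)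

section Seesaw

variable (N : Scheme.{u}) [N.Over (Spec (CommRingCat.of k))] (T : Over (Spec (CommRingCat.of k)))

/-- Rational points are dense. -/
theorem dense_pts [LocallyOfFiniteType T.hom] :
    Dense {z : T.left | ∃ w : 𝟙_ (Over Sk) ⟶ T, z ∈ Set.range w.left} := by
  have : JacobsonSpace T.left := LocallyOfFiniteType.jacobsonSpace T.hom
  have h := JacobsonSpace.closure_inter_closedPoints_eq_closure
    (isClosed_univ (X := T.left)).isLocallyClosed
  rw [Set.univ_inter, closure_univ] at h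
  refine Dense.mono ?_ (dense_iff_closure_eq.2 h)
  intro z hz
  obtain ⟨x, hx⟩ := exists_pt z hz
  exact ⟨x, _, hx⟩

variable {T} in
/-- The slice at a point. -/
noncomputable def sc (w : 𝟙_ (Over Sk) ⟶ T) : N ⟶ PicF.XT (N ↘ Sk) T :=
  Pic13.sliceAt k N T.hom w.left (Over.w w)

variable {T} in
@[reassoc (attr := simp)]
theorem sc_fst (w : 𝟙_ (Over Sk) ⟶ T) : sc N w ≫ pullback.fst (N ↘ Sk) T.hom = 𝟙 N :=
  sliceAt_fst k N _ _ _

variable {T} in
@[reassoc (attr := simp)]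
theorem sc_XTproj (w : 𝟙_ (Over Sk) ⟶ T) : sc N w ≫ PicF.XTproj (N ↘ Sk) T = (N ↘ Sk) ≫ w.left :=
  sliceAt_snd k N _ _ _

variable {T} in
theorem fibCl_eq_pull_sc (w : 𝟙_ (Over Sk) ⟶ T) (M : Pic (PicF.XT (N ↘ Sk) T)) :
    fibCl k N T.hom w.left (Over.w w) M = pull (sc N w) M := rfl

/-- The factorisation of the fibre through the slice. -/
theorem fiberι_eq [LocallyOfFiniteType T.hom] (w : 𝟙_ (Over Sk) ⟶ T) (x : T.left) (hx : x ∈ Set.range w.left) :
    (PicF.XTproj (N ↘ Sk) T).fiberι x =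
      ((PicF.XTproj (N ↘ Sk) T).fiberι x ≫ pullback.fst (N ↘ Sk) T.hom) ≫ sc N w := by
  have h1 := Sga7.H496.SeeSaw.fromSpecResidueField_section w.left T.hom (Over.w w) x hx
  apply pullback.hom_ext
  · rw [Category.assoc, sc_fst, Category.comp_id]
  · change (PicF.XTproj (N ↘ Sk) T).fiberι x ≫ PicF.XTproj (N ↘ Sk) T =
      (((PicF.XTproj (N ↘ Sk) T).fiberι x ≫ pullback.fst (N ↘ Sk) T.hom) ≫ sc N w) ≫ PicF.XTproj (N ↘ Sk) T
    have e2 : pullback.fst (N ↘ Sk) T.hom ≫ (N ↘ Sk) = PicF.XTproj (N ↘ Sk) T ≫ T.hom :=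
      pullback.condition
    rw [Category.assoc, sc_XTproj, Category.assoc, reassoc_of% e2, Scheme.Hom.fiber_fac_assoc,
      Scheme.Hom.fiber_fac]
    conv_lhs => rw [h1]
    rw [Category.assoc]

/-- See-saw on `N × T` for the projection to `T`. -/
theorem exists_pull_XTproj [IsProper (N ↘ Sk)] [GeometricallyIntegral (N ↘ Sk)] [Smooth T.hom]
    (M : Pic (PicF.XT (N ↘ Sk) T))
    (h : ∀ w : 𝟙_ (Over Sk) ⟶ T, fibCl k N T.hom w.left (Over.w w) M = 1) :
    ∃ d : Pic T.left, pull (PicF.XTproj (N ↘ Sk) T) d = M := by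
  have hno : IsLocallyNoetherian T.left := LocallyOfFiniteType.isLocallyNoetherian T.hom
  have hsnd : PicF.XTproj (N ↘ Sk) T = pullback.snd (N ↘ Sk) T.hom := rfl
  have i1 : Flat (PicF.XTproj (N ↘ Sk) T) := by rw [hsnd]; infer_instance
  have i2 : IsProper (PicF.XTproj (N ↘ Sk) T) := by rw [hsnd]; infer_instance
  have i3 : LocallyOfFinitePresentation (PicF.XTproj (N ↘ Sk) T) := by rw [hsnd]; infer_instance
  have i4 : GeometricallyIntegral (PicF.XTproj (N ↘ Sk) T) := by rw [hsnd]; infer_instance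
  refine Sga7.H496.SeeSaw.exists_pull (PicF.XTproj (N ↘ Sk) T)
    (Sga7.H496.SeeSaw.isNormalScheme_of_smooth T.hom) M _ (dense_pts T) ?_
  rintro x ⟨w, hx⟩
  have h3 := h w
  rw [fibCl_eq_pull_sc] at h3
  rw [fiberι_eq N T w x hx, pull_comp, h3, map_one]

end Seesaw

section

variable {X : Scheme.{u}} [X.Over (Spec (CommRingCat.of k))] (D : PZ k X)
  {T : Scheme.{u}} [T.Over (Spec (CommRingCat.of k))]

/-- The family of classes attached to a morphism to the Picard variety. -/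
noncomputable def fam (τ : ov k T ⟶ D.A) : Pic (PicF.XT (X ↘ Sk) (ov k T)) :=
  pull (PicF.XTmap (X ↘ Sk) (τ ≫ D.inc)) D.ξ

theorem fam_mem (τ : ov k T ⟶ D.A) : fam D τ ∈ Rg (X ↘ Sk) D.σ D.hσ (ov k T) :=
  pull_mem (T' := ov k T) (τ ≫ D.inc) D.univ.1

theorem fibCl_fam (τ : ov k T ⟶ D.A) (w : 𝟙_ (Over Sk) ⟶ ov k T) :
    fibCl k X (ov k T).hom w.left (Over.w w) (fam D τ) = D.θ (w ≫ τ) := by
  refine (PZ.fibCl_eq (T := ov k T) w (fam D τ)).trans ?_
  change _ = pull _ (pull (PicF.XTmap _ ((w ≫ τ) ≫ D.inc)) D.ξ)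
  rw [Category.assoc, XTmap_comp (X ↘ Sk) (τ ≫ D.inc) w, pull_comp]
  rfl

variable {N : Scheme.{u}} [N.Over (Spec (CommRingCat.of k))] (n : N ⟶ X)
  [n.IsOver (Spec (CommRingCat.of k))]

/-- `n` over `k`. -/
noncomputable def ovm : ov k N ⟶ ov k X := Over.homMk n (comp_over n _)

/-- `n × T`. -/
noncomputable def nT (T : Over Sk) : PicF.XT (N ↘ Sk) T ⟶ PicF.XT (X ↘ Sk) T :=
  pullback.lift (pullback.fst _ _ ≫ n) (pullback.snd _ _) (by
    rw [Category.assoc, comp_over n, pullback.condition])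

@[reassoc (attr := simp)]
theorem nT_fst (T : Over Sk) : nT n T ≫ pullback.fst (X ↘ Sk) T.hom = pullback.fst (N ↘ Sk) T.hom ≫ n :=
  pullback.lift_fst _ _ _

@[reassoc (attr := simp)]
theorem nT_XTproj (T : Over Sk) : nT n T ≫ PicF.XTproj (X ↘ Sk) T = PicF.XTproj (N ↘ Sk) T :=
  pullback.lift_snd _ _ _

theorem sc_nT (T : Over Sk) (w : 𝟙_ (Over Sk) ⟶ T) : sc N w ≫ nT n T = n ≫ sc X w := by
  apply pullback.hom_ext
  · rw [Category.assoc, nT_fst, Category.assoc, sc_fst, sc_fst_assoc, Category.comp_id]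
  · change (sc N w ≫ nT n T) ≫ PicF.XTproj (X ↘ Sk) T = (n ≫ sc X w) ≫ PicF.XTproj (X ↘ Sk) T
    rw [Category.assoc, nT_XTproj, Category.assoc, sc_XTproj, sc_XTproj, comp_over_assoc]

theorem fibCl_nT (T : Over Sk) (w : 𝟙_ (Over Sk) ⟶ T) (M : Pic (PicF.XT (X ↘ Sk) T)) :
    fibCl k N T.hom w.left (Over.w w) (pull (nT n T) M) =
      pull n (fibCl k X T.hom w.left (Over.w w) M) := by
  rw [fibCl_eq_pull_sc, fibCl_eq_pull_sc, ← pull_comp, sc_nT, pull_comp]

theorem XTmap_sw (n : N ⟶ X) [n.IsOver (Spec (CommRingCat.of k))] (T : Scheme.{u}) [T.Over (Spec (CommRingCat.of k))] :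
    PicF.XTmap (T ↘ Sk) (ovm n) ≫ sw X T = sw N T ≫ nT n (ov k T) := by
  apply pullback.hom_ext
  · rw [Category.assoc, sw_fst, XTmap_XTproj, Category.assoc, nT_fst, sw_fst_assoc]
    rfl
  · change (PicF.XTmap (T ↘ Sk) (ovm n) ≫ sw X T) ≫ PicF.XTproj (X ↘ Sk) (ov k T) =
      (sw N T ≫ nT n (ov k T)) ≫ PicF.XTproj (X ↘ Sk) (ov k T)
    rw [Category.assoc, sw_XTproj, XTmap_fst, Category.assoc, nT_XTproj, sw_XTproj]

/-- The classifying morphism is constant on `N` if the family is constant on `N`. -/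
theorem exists_const (M : Pic (PicF.XT (X ↘ Sk) (ov k T))) (D' : PZ k T) (d : Pic T)
    (hd : pull (PicF.XTproj (N ↘ Sk) (ov k T)) d = pull (nT n (ov k T)) M) :
    ∃ c : 𝟙_ (Over Sk) ⟶ D'.P, ovm n ≫ φ M D' = toUnit _ ≫ c := by
  refine ⟨D'.univ.hom (Fga.RigGrp.norm (T ↘ Sk) D'.σ D'.hσ (𝟙_ (Over Sk))
    (pull (pullback.fst (T ↘ Sk) (𝟙_ (Over Sk)).hom) d)) (norm_mem _ _ _ _ _), ?_⟩
  apply D'.univ.hom_ext
  rw [XTmap_comp, pull_comp, pull_φ, pull_norm, ← pull_comp, XTmap_sw, pull_comp, ← hd, ← pull_comp, sw_XTproj,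
    XTmap_comp, pull_comp, D'.univ.pull_hom, pull_norm, ← pull_comp, XTmap_fst]

/-- Morphisms from `X` to proper groups contracting `F` are constant. -/
def Rig (k : Type u) [Field k] (X : Scheme.{u}) [X.Over (Spec (CommRingCat.of k))] (F : Set X) : Prop :=
  ∀ (B : Over (Spec (CommRingCat.of k))) (_ : GrpObj B) (_ : IsProper B.hom) (ψ : ov k X ⟶ B) (y : B.left),
    (∀ x ∈ F, ψ.left x = y) → ∃ σ : 𝟙_ (Over (Spec (CommRingCat.of k))) ⟶ B, ψ = toUnit _ ≫ σ

/-- The image of a preconnected set contained in a finite set of closed points has at most one point. -/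
theorem exists_eq_of_finite {α β : Type*} [TopologicalSpace α] [TopologicalSpace β] [Nonempty β] {F : Set α}
    (hF : _root_.IsPreconnected F) {g : α → β} (hg : Continuous g) {S : Set β} (hS : S.Finite)
    (hS' : ∀ y ∈ S, IsClosed ({y} : Set β)) (h : ∀ x ∈ F, g x ∈ S) : ∃ y, ∀ x ∈ F, g x = y := by
  rcases F.eq_empty_or_nonempty with rfl | ⟨x₀, hx₀⟩
  · exact ⟨Classical.arbitrary β, by simp⟩
  refine ⟨g x₀, fun x hx => ?_⟩
  by_contra hne
  have hc1 : IsClosed (g ⁻¹' {g x₀}) := (hS' _ (h _ hx₀)).preimage hg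
  have hc2 : IsClosed (g ⁻¹' (S \ {g x₀})) := by
    refine IsClosed.preimage hg ?_
    rw [← Set.biUnion_of_singleton (S \ {g x₀})]
    exact (hS.subset Set.sdiff_subset).isClosed_biUnion fun y hy => hS' y hy.1
  obtain ⟨z, -, hz1, hz2⟩ := (isPreconnected_closed_iff.1 hF) _ _ hc1 hc2 (fun z hz => by
    by_cases hzz : g z = g x₀
    · exact Or.inl hzz
    · exact Or.inr ⟨h z hz, hzz⟩) ⟨x₀, hx₀, rfl⟩ ⟨x, hx, h x hx, hne⟩
  exact hz2.2 hz1

/-- **Core lemma.** -/
theorem const_of_trivial [IsReduced X] [ConnectedSpace X] (F : Set X) (hF : _root_.IsPreconnected F)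
    (hrig : Rig k X F) {J : Type*} [Finite J] (N : J → Scheme.{u}) [∀ i, (N i).Over (Spec (CommRingCat.of k))]
    [∀ i, IsProper (N i ↘ Spec (CommRingCat.of k))] [∀ i, IsIntegral (N i)] (n : ∀ i, N i ⟶ X)
    [∀ i, (n i).IsOver (Spec (CommRingCat.of k))] (hcov : ∀ x ∈ F, ∃ i, x ∈ Set.range (n i))
    [Smooth (T ↘ Sk)] [IsProper (T ↘ Sk)] (D' : PZ k T) (τ : ov k T ⟶ D.A)
    (h : ∀ (i : J) (w : 𝟙_ (Over Sk) ⟶ ov k T), pull (n i) (D.θ (w ≫ τ)) = 1)
    (w w' : 𝟙_ (Over Sk) ⟶ ov k T) : w ≫ τ = w' ≫ τ := by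
  have hM := fam_mem D τ
  have hcst : ∀ i, ∃ c : 𝟙_ (Over Sk) ⟶ D'.P, ovm (n i) ≫ φ (fam D τ) D' = toUnit _ ≫ c := by
    intro i
    have hGI : GeometricallyIntegral (N i ↘ Sk) := geometricallyIntegral k (N i) _
    have hsm : Smooth (ov k T).hom := ‹Smooth (T ↘ Sk)›
    obtain ⟨d, hd⟩ := exists_pull_XTproj (N i) (ov k T) (pull (nT (n i) (ov k T)) (fam D τ)) (fun w => by
      rw [fibCl_nT, fibCl_fam, h])
    exact exists_const (n i) (fam D τ) D' d hd
  choose c hc using hcst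
  obtain ⟨ψ, hψ⟩ := exists_lift_φ D (fam D τ) D' (pt_φ D (fam D τ) hM D')
  have hA' : IsProper D'.A.hom := D'.isProper
  have hval : ∀ x ∈ F, ψ.left x ∈ (D'.inc.left ⁻¹' (Set.range fun i => pt (c i)) : Set D'.A.left) := by
    intro x hx
    obtain ⟨i, y, rfl⟩ := hcov x hx
    refine ⟨i, ?_⟩
    have h1 := congrArg (fun t : ov k (N i) ⟶ D'.P => t.left y) (hc i)
    have h2 : (φ (fam D τ) D').left (n i y) = (c i).left ((toUnit (ov k (N i))).left y) := h1
    change pt (c i) = D'.inc.left (ψ.left (n i y))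
    have h3 : D'.inc.left (ψ.left (n i y)) = (φ (fam D τ) D').left (n i y) := by
      rw [← hψ]; simp
    rw [h3, h2]
    exact congrArg (c i).left (Subsingleton.elim (α := PrimeSpectrum k) _ _)
  have hfin : (D'.inc.left ⁻¹' (Set.range fun i => pt (c i)) : Set D'.A.left).Finite :=
    (Set.finite_range _).preimage D'.inc.left.isClosedEmbedding.injective.injOn
  have hcl : ∀ y ∈ (D'.inc.left ⁻¹' (Set.range fun i => pt (c i)) : Set D'.A.left), IsClosed ({y} : Set D'.A.left) := by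
    rintro y ⟨i, hi⟩
    have h1 : IsClosed ({pt (c i)} : Set D'.P.left) := isClosed_pt (c i)
    have h2 := h1.preimage D'.inc.left.continuous
    convert h2 using 1
    ext z
    simp only [Set.mem_singleton_iff, Set.mem_preimage]
    constructor
    · rintro rfl
      exact hi.symm
    · intro hz
      exact D'.inc.left.isClosedEmbedding.injective (hz.trans hi)
  have : Nonempty D'.A.left := inferInstance
  obtain ⟨y, hy⟩ := exists_eq_of_finite hF (g := ψ.left) ψ.left.continuous hfin hcl hval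
  obtain ⟨σ, hσ⟩ := hrig D'.A inferInstance hA' ψ y hy
  apply D.θ_injective
  have key : ∀ a : 𝟙_ (Over Sk) ⟶ ov k T, D.θ (a ≫ τ) = D.θ (ptOf D'.σ D'.hσ ≫ τ) := by
    intro a
    have h1 := fib_eq (fam D τ) D' a
    rw [fibCl_fam, fibCl_fam] at h1
    rw [← div_eq_one, h1, ← hψ, hσ, Category.assoc, Over.comp_left, pull_comp]
    have h2 : pull (σ ≫ D'.inc).left (pull (sl a D'.P) D'.ξ) = 1 := pic_spec_local k _
    rw [h2, map_one]
  rw [key w, key w']

end

end K379.Core
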