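import Groth.Agent.SGA3x.K14.EtFib
import Groth.Agent.Unram.K147.LQF
import Mathlib.AlgebraicGeometry.Morphisms.Etale
import Mathlib.AlgebraicGeometry.ZariskisMainTheorem
import Mathlib.AlgebraicGeometry.AlgClosed.Basic

/-!
# A morphism to `E × C` which is étale on the closed fibres over `C` is étale
-/

set_option autoImplicit false
set_option linter.unusedSectionVars false
universe u
open CategoryTheory CategoryTheory.Limits AlgebraicGeometry Opposite TopologicalSpace

namespace K379.EtaleFib

open Groth.Agent K203.Loc K203.FibHom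

/-- Every point of a quasi-compact scheme specializes to a closed point. -/
theorem exists_closed (X : Scheme.{u}) [CompactSpace X] (x : X) : ∃ y : X, x ⤳ y ∧ IsClosed ({y} : Set X) := by
  obtain ⟨y, hy, hyc⟩ := (isClosed_closure (s := ({x} : Set X))).exists_closed_singleton ⟨x, subset_closure rfl⟩
  exact ⟨y, specializes_iff_mem_closure.2 hy, hyc⟩

variable {k : Type u} [Field k] [IsAlgClosed k] {X C E : Scheme.{u}}

theorem etale (qE : E ⟶ Spec (CommRingCat.of k)) [LocallyOfFiniteType qE]
    (qC : C ⟶ Spec (CommRingCat.of k)) [LocallyOfFiniteType qC]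
    (f : X ⟶ C) [Flat f] [LocallyOfFinitePresentation f] [CompactSpace X] [UniversallyClosed f]
    (θ : X ⟶ E) (hθ : θ ≫ qE = f ≫ qC)
    (hfe : ∀ s : C, IsClosed ({s} : Set C) → Etale (f.fiberι s ≫ θ)) :
    Etale (pullback.lift θ f hθ : X ⟶ pullback qE qC) := by
  have il : IsZariskiLocalAtSource (@Etale.{u}) := HasRingHomProperty.instIsZariskiLocalAtSource
  have ir : MorphismProperty.RespectsIso (@Etale.{u}) := MorphismProperty.IsStableUnderBaseChange.respectsIso
  let u : Over.mk f ⟶ Over.mk (pullback.snd qE qC) :=
    Over.homMk (pullback.lift θ f hθ) (pullback.lift_snd _ _ _)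
  have i1 : Flat (Over.mk f).hom := ‹Flat f›
  have i2 : LocallyOfFinitePresentation (Over.mk f).hom := ‹LocallyOfFinitePresentation f›
  have i3 : LocallyOfFiniteType (Over.mk (pullback.snd qE qC)).hom :=
    inferInstanceAs (LocallyOfFiniteType (pullback.snd qE qC))
  -- closed points
  have key : ∀ x : X, IsClosed ({x} : Set X) → Near @Etale u.left x := by
    intro x hx
    have hs : IsClosed ({f x} : Set C) := by
      rw [← Set.image_singleton]
      exact f.isClosedMap _ hx
    have hiso : IsIso (C.fromSpecResidueField (f x) ≫ qC) := by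
      rw [← SpecMap_residueFieldIsoBase_inv qC (f x) hs]
      infer_instance
    have hpb := (IsPullback.of_hasPullback (pullback.snd qE qC)
      (C.fromSpecResidueField (f x))).paste_horiz (IsPullback.of_hasPullback qE qC)
    have hi : IsIso (pullback.fst (pullback.snd qE qC) (C.fromSpecResidueField (f x)) ≫ pullback.fst qE qC) :=
      MorphismProperty.of_isPullback (P := MorphismProperty.isomorphisms Scheme.{u}) hpb.flip hiso
    have hw : fib u (f x) ≫ (pullback.fst (pullback.snd qE qC) (C.fromSpecResidueField (f x)) ≫ pullback.fst qE qC) =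
        f.fiberι (f x) ≫ θ := by
      have h1 := (isPullback_fib u (f x)).w
      have h2 : u.left ≫ pullback.fst qE qC = θ := pullback.lift_fst _ _ _
      have h3 : pullback.fst f (C.fromSpecResidueField (f x)) ≫ u.left =
        fib u (f x) ≫ pullback.fst (pullback.snd qE qC) (C.fromSpecResidueField (f x)) := h1
      rw [← Category.assoc, ← h3, Category.assoc, h2]
      rfl
    have hE : Etale (fib u (f x)) := by
      have h4 := hfe (f x) hs
      rw [← hw] at h4
      exact (MorphismProperty.cancel_right_of_respectsIso @Etale _ _).1 h4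
    obtain ⟨x', hx'⟩ : ∃ x' : f.fiber (f x), f.fiberι (f x) x' = x := ⟨f.asFiber x, f.fiberι_asFiber x⟩
    exact K14.EtFib.near_etale_of_fib_pt u x rfl x' hx' (Near.of_property hE x')
  refine property_of_forall fun x => ?_
  obtain ⟨y, hxy, hy⟩ := exists_closed X x
  exact hxy.mem_open (isOpen_setOf (P := @Etale) (pullback.lift θ f hθ)) (key y hy)

theorem isFinite {qE : E ⟶ Spec (CommRingCat.of k)} [IsSeparated qE]
    {qC : C ⟶ Spec (CommRingCat.of k)} [IsSeparated qC] (φ : X ⟶ pullback qE qC)
    [IsProper (φ ≫ pullback.snd qE qC)] [Etale φ] : IsFinite φ := by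
  have h1 : IsProper φ := IsProper.of_comp φ (pullback.snd qE qC)
  rw [IsFinite.iff_isProper_and_locallyQuasiFinite]
  exact ⟨h1, K147.LQF.locallyQuasiFinite_of_etale φ⟩

end K379.EtaleFib
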