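import Mathlib.AlgebraicGeometry.Noetherian
import Mathlib.AlgebraicGeometry.Stalk
import Mathlib.RingTheory.Ideal.KrullsHeightTheorem
import Mathlib.RingTheory.Ideal.Height

/-!
# Local dimension and finitely many morphisms

* `ringKrullDim_le_sum`: `S` local Noetherian, `f i : R i → S` local; if the only prime containing all the `f i (m_i)` is the
  maximal ideal then `dim S ≤ ∑ (number of generators of m_i)`.
* `dim_stalk_le_sum`: the geometric version.
-/

set_option autoImplicit false
universe u

open CategoryTheory Limits AlgebraicGeometry IsLocalRing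

namespace K379.LocDim

theorem ringKrullDim_le_sum {ι : Type*} [Fintype ι] {S : Type u} [CommRing S] [IsLocalRing S] [IsNoetherianRing S]
    {R : ι → Type u} [∀ i, CommRing (R i)] [∀ i, IsLocalRing (R i)] (f : ∀ i, R i →+* S)
    (hloc : ∀ i, IsLocalHom (f i)) (hfg : ∀ i, (maximalIdeal (R i)).FG)
    (h : ∀ p : Ideal S, p.IsPrime → (∀ i, (maximalIdeal (R i)).map (f i) ≤ p) → p = maximalIdeal S) :
    ringKrullDim S ≤ ((∑ i, (maximalIdeal (R i)).spanFinrank : ℕ) : WithBot ℕ∞) := by
  classical
  choose s hs1 hs2 using fun i => Submodule.FG.exists_span_finset_card_eq_spanFinrank (hfg i)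
  let t : Finset S := Finset.univ.biUnion fun i => (s i).image (f i)
  have hle : ∀ i, (maximalIdeal (R i)).map (f i) ≤ Ideal.span (t : Set S) := by
    intro i
    have h1 : maximalIdeal (R i) = Ideal.span ((s i : Finset (R i)) : Set (R i)) := (hs2 i).symm
    rw [h1, Ideal.map_span]
    refine Ideal.span_mono ?_
    intro x hx
    obtain ⟨y, hy, rfl⟩ := hx
    refine Finset.mem_coe.2 (Finset.mem_biUnion.2 ⟨i, Finset.mem_univ _, ?_⟩)
    exact Finset.mem_image_of_mem _ (Finset.mem_coe.1 hy)
  have hmem : maximalIdeal S ∈ (Ideal.span (t : Set S)).minimalPrimes := by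
    refine ⟨⟨inferInstance, ?_⟩, ?_⟩
    · rw [Ideal.span_le]
      intro x hx
      obtain ⟨i, -, hx⟩ := Finset.mem_biUnion.1 (Finset.mem_coe.1 hx)
      obtain ⟨y, hy, rfl⟩ := Finset.mem_image.1 hx
      have h1 : y ∈ maximalIdeal (R i) := by
        have : y ∈ Submodule.span (R i) ((s i : Finset (R i)) : Set (R i)) := Submodule.subset_span hy
        rwa [hs2 i] at this
      have := hloc i
      exact (map_mem_nonunits_iff (f i) y).2 h1
    · rintro q ⟨hq1, hq2⟩ -
      exact (h q hq1 fun i => (hle i).trans hq2).symm.le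
  have h1 := Ideal.height_le_card_of_mem_minimalPrimes_span_finset hmem
  have h2 : t.card ≤ ∑ i, (maximalIdeal (R i)).spanFinrank := by
    refine Finset.card_biUnion_le.trans (Finset.sum_le_sum fun i _ => ?_)
    exact Finset.card_image_le.trans (hs1 i).le
  rw [← IsLocalRing.maximalIdeal_height_eq_ringKrullDim]
  have h3 : (maximalIdeal S).height ≤ ((∑ i, (maximalIdeal (R i)).spanFinrank : ℕ) : ℕ∞) :=
    h1.trans (by exact_mod_cast h2)
  exact WithBot.coe_le_coe.2 h3

theorem dim_stalk_le_sum {ι : Type*} [Fintype ι] {X : Scheme.{u}} [IsLocallyNoetherian X] {Y : ι → Scheme.{u}}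
    [∀ i, IsLocallyNoetherian (Y i)] (g : ∀ i, X ⟶ Y i) (x : X)
    (h : ∀ y : X, y ⤳ x → (∀ i, g i y = g i x) → y = x) :
    ringKrullDim (X.presheaf.stalk x) ≤
      ((∑ i, (maximalIdeal ((Y i).presheaf.stalk (g i x))).spanFinrank : ℕ) : WithBot ℕ∞) := by
  refine ringKrullDim_le_sum (fun i => ((g i).stalkMap x).hom) (fun i => inferInstance)
    (fun i => IsNoetherian.noetherian _) ?_
  intro p hp hle
  let P : Spec (X.presheaf.stalk x) := ⟨p, hp⟩
  have h1 : X.fromSpecStalk x P ⤳ x := by
    have h2 : P ⤳ closedPoint (X.presheaf.stalk x) := IsLocalRing.specializes_closedPoint _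
    have h3 := h2.map (X.fromSpecStalk x).continuous
    rwa [Scheme.fromSpecStalk_closedPoint] at h3
  have h2 : ∀ i, g i (X.fromSpecStalk x P) = g i x := by
    intro i
    have e : Spec.map ((g i).stalkMap x) P = closedPoint _ := by
      apply PrimeSpectrum.ext
      change p.comap ((g i).stalkMap x).hom = maximalIdeal _
      refine ((IsLocalRing.maximalIdeal.isMaximal _).eq_of_le ?_ (Ideal.map_le_iff_le_comap.1 (hle i))).symm
      exact (Ideal.IsPrime.comap _ (hK := hp)).ne_top
    have h3 := Scheme.SpecMap_stalkMap_fromSpecStalk (g i) (x := x)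
    have h5 : g i (X.fromSpecStalk x P) = (Y i).fromSpecStalk (g i x) (Spec.map ((g i).stalkMap x) P) := by
      rw [← Scheme.Hom.comp_apply, ← Scheme.Hom.comp_apply, h3]
    rw [h5, e, Scheme.fromSpecStalk_closedPoint]
  have h3 := h _ h1 h2
  have h4 : P = closedPoint (X.presheaf.stalk x) := by
    apply (X.fromSpecStalk x).isEmbedding.injective
    rw [h3, Scheme.fromSpecStalk_closedPoint]
  exact congrArg PrimeSpectrum.asIdeal h4

end K379.LocDim
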