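import Groth.Agent.Surf.K379.Core
import Groth.Agent.Surf.K379.LocDim
import Groth.Agent.Biell.K856.PicA2
import Groth.Agent.AbVar.K510.ExistsCurve
import Groth.Agent.Variety.K432.CurveNorm
import Groth.Agent.Ega2.SmoothBdry
import Groth.Agent.Lefpen.H705.ClosedPoint
import Groth.Agent.S1627
import Groth.Agent.CurvesC.DualInvNonvan
import Groth.Agent.Surf.K465.ProjH

/-!
# The dimension of the Picard variety is at most the sum of the genera of a generating family of curves

`D : PZ k X`, `F ⊆ X` preconnected, such that morphisms from `X` to proper groups contracting `F` are constant. `F` is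
covered by finitely many smooth proper curves `n i : N i ⟶ X`.

* `isClosed_of_trivial`, `finite_ker`: only finitely many classes in `Pic⁰` are trivial on all the `N i`;
* `dim_le_sum`: the dimension of the Picard variety is at most the sum of the genera of the `N i`.
-/

set_option autoImplicit false
set_option linter.unusedSectionVars false
universe u
open CategoryTheory CategoryTheory.Limits AlgebraicGeometry Opposite IsLocalRing
open MonoidalCategory CartesianMonoidalCategory MonObj TopologicalSpace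

namespace K379.FibGen

open Groth.Agent
open Groth.Agent.Grpsch.PicGrp Groth.Agent.Fga.RigGrp
open Groth.Agent.Books.AlgPts Groth.Agent.Books.AlgPtsGrp
open Groth.Agent.Pic13.H138.Slice Groth.Agent.Pic13.H138.AlgEquiv K856.PicA K856.Alb K379.Core

variable {k : Type u} [Field k] [IsAlgClosed k]

local notation "Sk" => Spec (CommRingCat.of k)

theorem exists_ample_of_curve (k : Type u) [Field k] (C : Scheme.{u}) [C.Over (Spec (CommRingCat.of k))]
    (hC : Curve.IsSmoothProperCurve k C (C ↘ Spec (CommRingCat.of k))) : ∃ H : C.Modules, CohB1.IsAmple H := by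
  obtain ⟨hp, hs, hint, hdim⟩ := hC
  rcases S1627.result k C hdim with h | ⟨d, c, hc, hcf⟩
  · exact absurd h (CurvesC.DualInvNonvan.not_isAffine k (C ↘ Spec (CommRingCat.of k)) hdim)
  · exact ⟨_, (K465.ProjH.facts k C c hcf).2⟩

/-- A closed subset of a proper scheme with a nonclosed point contains the image of a nonconstant morphism from a smooth
proper curve. -/
theorem exists_smooth_curve {X : Scheme.{u}} (q : X ⟶ Sk) [IsProper q] (Z : Set X) (hZ : IsClosed Z)
    (z : X) (hz : z ∈ Z) (hz' : ¬ IsClosed ({z} : Set X)) :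
    ∃ (T : Scheme.{u}) (ν : T ⟶ X), Curve.IsSmoothProperCurve k T (ν ≫ q) ∧ (∀ t : T, ν t ∈ Z) ∧
      (Set.range ν).Nontrivial := by
  have hN : IsLocallyNoetherian X := LocallyOfFiniteType.isLocallyNoetherian q
  have hcX : CompactSpace X := QuasiCompact.compactSpace_of_compactSpace q
  have hNX : IsNoetherian X := { }
  let I := Scheme.IdealSheafData.vanishingIdeal (X := X) ⟨Z, hZ⟩
  have hr : Set.range I.subschemeι = Z := by
    rw [I.range_subschemeι, Scheme.IdealSheafData.coe_support_vanishingIdeal]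
    rfl
  obtain ⟨C, i, hi, hC, hdim, hnt⟩ := K510.ExistsCurve.exists_curve k (I.subschemeι ≫ q) q I.subschemeι rfl z
    (by rw [hr]; exact hz) hz'
  obtain ⟨D, n, hn, hns, hD, hDdim, hreg, -⟩ := K432.CurveNorm.exists_regular_model
    (i ≫ I.subschemeι ≫ q) hdim
  have hfin : IsFinite (n ≫ i ≫ I.subschemeι) := inferInstance
  have hpr : IsProper ((n ≫ i ≫ I.subschemeι) ≫ q) := inferInstance
  have hsm : Smooth ((n ≫ i ≫ I.subschemeι) ≫ q) := Ega2.SmoothBdry.smooth_of_regular _ hreg
  refine ⟨D, n ≫ i ≫ I.subschemeι, ⟨hpr, hsm, hD, hDdim⟩, fun d => ?_, ?_⟩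
  · rw [← hr]
    exact ⟨i (n d), by simp⟩
  · have : Set.range (n ≫ i ≫ I.subschemeι) = Set.range (i ≫ I.subschemeι) := by
      ext x
      constructor
      · rintro ⟨d, rfl⟩
        exact ⟨n d, by simp⟩
      · rintro ⟨c, rfl⟩
        obtain ⟨d, rfl⟩ := hns.surj c
        exact ⟨d, by simp⟩
    rw [this]
    exact hnt

/-- A closed subset of a Noetherian sober space all of whose points are closed is finite. -/
theorem finite_of_isClosed_singleton {X : Type*} [TopologicalSpace X] [NoetherianSpace X] [QuasiSober X] {Z : Set X}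
    (hZ : IsClosed Z) (h : ∀ z ∈ Z, IsClosed ({z} : Set X)) : Z.Finite := by
  obtain ⟨S, hS, hSc, hSi, e⟩ := NoetherianSpace.exists_finite_set_isClosed_irreducible hZ
  rw [e]
  refine Set.Finite.sUnion hS fun K hK => ?_
  obtain ⟨x, hx⟩ := QuasiSober.sober (hSi K hK) (hSc K hK)
  have hx' : x ∈ K := hx.mem
  have hxZ : x ∈ Z := by
    rw [e]
    exact ⟨K, hK, hx'⟩
  have h1 : K = {x} := by
    rw [← (h x hxZ).closure_eq]
    exact hx.symm
  rw [h1]
  exact Set.finite_singleton x

section Res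

variable {X : Scheme.{u}} [X.Over (Spec (CommRingCat.of k))] (D : PZ k X)
  {N : Scheme.{u}} [N.Over (Spec (CommRingCat.of k))] (n : N ⟶ X) [n.IsOver (Spec (CommRingCat.of k))] (E : PZ k N)

/-- The restriction of classes from `X` to `N` is a morphism of Picard varieties. -/
theorem exists_res : ∃ ρ : D.A ⟶ E.A, ∀ a : 𝟙_ (Over Sk) ⟶ D.A, E.θ (a ≫ ρ) = pull n (D.θ a) := by
  let d : Pic (PicF.XT (N ↘ Sk) D.A) := pull (nT n D.A) (pull (PicF.XTmap (X ↘ Sk) D.inc) D.ξ)
  let g : D.A ⟶ E.P := E.univ.hom (Fga.RigGrp.norm (N ↘ Sk) E.σ E.hσ D.A d) (norm_mem _ _ _ _ _)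
  have key : ∀ a : 𝟙_ (Over Sk) ⟶ D.A, E.θP (a ≫ g) = pull n (D.θ a) := by
    intro a
    have h1 : E.θP (a ≫ g) = fibCl k N D.A.hom a.left (Over.w a) d := by
      refine Eq.trans ?_ (PZ.fibCl_eq a d).symm
      change pull (PZ.j k N) (pull (PicF.XTmap (N ↘ Sk) (a ≫ g)) E.ξ) = _
      rw [XTmap_comp, pull_comp, E.univ.pull_hom, pull_norm, norm_of_mem _ _ _ (E.mem_Rg_unit _)]
    rw [h1, fibCl_nT]
    congr 1
    refine (PZ.fibCl_eq (T := D.A) a _).trans ?_
    change _ = pull _ (pull (PicF.XTmap _ (a ≫ D.inc)) D.ξ)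
    rw [XTmap_comp, pull_comp]
  have hg : (1 : 𝟙_ (Over Sk) ⟶ D.A) ≫ g = 1 := E.θP_injective (by rw [key, map_one, map_one, map_one])
  have hr : Set.range g.left ⊆ Set.range E.inc.left := by
    rw [E.range]
    have h4 : _root_.IsPreconnected (Set.range g.left) := isPreconnected_range g.left.continuous
    refine h4.subset_connectedComponent ?_
    have h5 : pt η[E.P] = g.left (pt (1 : 𝟙_ (Over Sk) ⟶ D.A)) := by
      rw [← pt_comp, hg, one_eq_one]
    rw [h5]
    exact ⟨_, rfl⟩
  obtain ⟨ρ, hρ⟩ := Books.AlgPtsGrp.exists_lift E.inc g hr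
  refine ⟨ρ, fun a => ?_⟩
  rw [PZ.θ_apply, Category.assoc, hρ, key]

end Res

section Main

variable {X : Scheme.{u}} [X.Over (Spec (CommRingCat.of k))] [IsProper (X ↘ Spec (CommRingCat.of k))]
  [Smooth (X ↘ Spec (CommRingCat.of k))] [IsReduced X] [ConnectedSpace X] (D : PZ k X) (F : Set X)
  (hF : _root_.IsPreconnected F) (hrig : Rig k X F) {J : Type} [Fintype J] (N : J → Scheme.{u})
  [∀ i, (N i).Over (Spec (CommRingCat.of k))]
  (hN : ∀ i, Curve.IsSmoothProperCurve k (N i) (N i ↘ Spec (CommRingCat.of k))) (n : ∀ i, N i ⟶ X)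
  [∀ i, (n i).IsOver (Spec (CommRingCat.of k))] (hcov : ∀ x ∈ F, ∃ i, x ∈ Set.range (n i))

include hF hrig hN hcov in
/-- The points of the Picard variety whose restriction to all `N i` is trivial are closed. -/
theorem isClosed_of_trivial (E : ∀ i, PZ k (N i)) (ρ : ∀ i, D.A ⟶ (E i).A)
    (hρ : ∀ (i : J) (a : 𝟙_ (Over Sk) ⟶ D.A), (E i).θ (a ≫ ρ i) = pull (n i) (D.θ a)) (z : D.A.left)
    (hz : ∀ i, (ρ i).left z = pt η[(E i).A]) : IsClosed ({z} : Set D.A.left) := by
  by_contra hcl
  have hAp : IsProper D.A.hom := D.isProper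
  let Z : Set D.A.left := ⋂ i, (ρ i).left ⁻¹' {pt η[(E i).A]}
  have hZ : IsClosed Z := isClosed_iInter fun i => (isClosed_pt (X := (E i).A) _).preimage (ρ i).left.continuous
  obtain ⟨T, ν, hT, hνZ, hnt⟩ := exists_smooth_curve D.A.hom Z hZ z (Set.mem_iInter.2 fun i => hz i) hcl
  let _ : T.Over (Spec (CommRingCat.of k)) := ⟨ν ≫ D.A.hom⟩
  have hT' : Curve.IsSmoothProperCurve k T (T ↘ Sk) := hT
  obtain ⟨D'⟩ : Nonempty (PZ k T) := by
    have := hT'.1
    have := hT'.2.2.1
    exact nonempty_pz k T (exists_ample_of_curve k T hT')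
  have hTp : IsProper (T ↘ Sk) := hT'.1
  have hTs : Smooth (T ↘ Sk) := hT'.2.1
  let τ : ov k T ⟶ D.A := Over.homMk ν rfl
  have hNp : ∀ i, IsProper (N i ↘ Spec (CommRingCat.of k)) := fun i => (hN i).1
  have hNi : ∀ i, IsIntegral (N i) := fun i => (hN i).2.2.1
  have key : ∀ (i : J) (w : 𝟙_ (Over Sk) ⟶ ov k T), pull (n i) (D.θ (w ≫ τ)) = 1 := by
    intro i w
    rw [← hρ]
    have h1 : (w ≫ τ) ≫ ρ i = 1 := by
      apply pt_injective
      rw [pt_comp, pt_comp]
      have h2 := Set.mem_iInter.1 (hνZ (pt w)) i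
      exact h2.trans (by rw [one_eq_one])
    rw [h1, map_one]
  have hconst := const_of_trivial D F hF hrig N n hcov D' τ key
  obtain ⟨t₀, ht₀, t₁, ht₁, hne⟩ := hnt
  have hlft : LocallyOfFiniteType (ov k T).hom := inferInstanceAs (LocallyOfFiniteType (T ↘ Sk))
  have hTne : Nonempty (ov k T).left := by
    obtain ⟨t, -⟩ := ht₀
    exact ⟨t⟩
  obtain ⟨w₀, -⟩ := exists_pt_mem (X := ov k T) (U := Set.univ) Set.univ_nonempty isClosed_univ.isLocallyClosed
  have hall : ∀ t : T, ν t = ν (pt w₀) := by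
    have h1 : IsClosed (ν ⁻¹' {ν (pt w₀)}) := by
      refine IsClosed.preimage ν.continuous ?_
      have := isClosed_pt (w₀ ≫ τ)
      rwa [pt_comp] at this
    have h2 := (dense_pts (ov k T)).closure_eq
    have h3 : closure {z : (ov k T).left | ∃ w : 𝟙_ (Over Sk) ⟶ ov k T, z ∈ Set.range w.left} ⊆
        ν ⁻¹' {ν (pt w₀)} := by
      refine closure_minimal ?_ h1
      rintro z ⟨w, s, rfl⟩
      have h4 := congrArg pt (hconst w w₀)
      rw [pt_comp, pt_comp] at h4
      obtain rfl : s = IsLocalRing.closedPoint k := Subsingleton.elim (α := PrimeSpectrum k) _ _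
      exact h4
    intro t
    exact h3 (by rw [h2]; trivial)
  obtain ⟨t, rfl⟩ := ht₀
  obtain ⟨t', rfl⟩ := ht₁
  exact hne ((hall t).trans (hall t').symm)

include hF hrig hN hcov in
/-- Only finitely many classes in the Picard variety are trivial on all `N i`. -/
theorem finite_ker : Set.Finite {a : 𝟙_ (Over Sk) ⟶ D.A | ∀ i, pull (n i) (D.θ a) = 1} := by
  have hNp : ∀ i, IsProper (N i ↘ Spec (CommRingCat.of k)) := fun i => (hN i).1
  have hNs : ∀ i, Smooth (N i ↘ Spec (CommRingCat.of k)) := fun i => (hN i).2.1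
  have hNi : ∀ i, IsIntegral (N i) := fun i => (hN i).2.2.1
  have hE : ∀ i, Nonempty (PZ k (N i)) := fun i => nonempty_pz k (N i) (exists_ample_of_curve k (N i) (hN i))
  let E : ∀ i, PZ k (N i) := fun i => (hE i).some
  choose ρ hρ using fun i => exists_res D (n i) (E i)
  have hNoe : IsLocallyNoetherian D.A.left := LocallyOfFiniteType.isLocallyNoetherian D.A.hom
  have hNoe' : NoetherianSpace D.A.left := by
    have : AlgebraicGeometry.IsNoetherian D.A.left := { }
    infer_instance
  let Z : Set D.A.left := ⋂ i, (ρ i).left ⁻¹' {pt η[(E i).A]}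
  have hZ : IsClosed Z := isClosed_iInter fun i => (isClosed_pt (X := (E i).A) _).preimage (ρ i).left.continuous
  have hZf : Z.Finite := finite_of_isClosed_singleton hZ fun z hz =>
    isClosed_of_trivial D F hF hrig N hN n hcov E ρ hρ z fun i => Set.mem_iInter.1 hz i
  refine Set.Finite.of_finite_image (f := pt) (hZf.subset ?_) fun a _ b _ hab => pt_injective hab
  rintro _ ⟨a, ha, rfl⟩
  refine Set.mem_iInter.2 fun i => ?_
  have h1 : a ≫ ρ i = 1 := (E i).θ_injective (by rw [hρ, ha i, map_one])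
  change (ρ i).left (pt a) = pt η[(E i).A]
  rw [← pt_comp, h1, one_eq_one]

include hF hrig hN hcov in
/-- **The dimension of the Picard variety is at most the sum of the genera.** -/
theorem dim_le_sum : topologicalKrullDim D.A.left ≤
    ((∑ i, Module.finrank k (Coh.HH (N i) (Coh.structureModule (N i)) 1) : ℕ) : WithBot ℕ∞) := by
  have hNp : ∀ i, IsProper (N i ↘ Spec (CommRingCat.of k)) := fun i => (hN i).1
  have hNs : ∀ i, Smooth (N i ↘ Spec (CommRingCat.of k)) := fun i => (hN i).2.1
  have hNi : ∀ i, IsIntegral (N i) := fun i => (hN i).2.2.1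
  have hE : ∀ i, Nonempty (PZ k (N i)) := fun i => nonempty_pz k (N i) (exists_ample_of_curve k (N i) (hN i))
  let E : ∀ i, PZ k (N i) := fun i => (hE i).some
  choose ρ hρ using fun i => exists_res D (n i) (E i)
  have hAp : IsProper D.A.hom := D.isProper
  have hone : ∀ i, (ρ i).left (pt η[D.A]) = pt η[(E i).A] := by
    intro i
    have h1 : (1 : 𝟙_ (Over Sk) ⟶ D.A) ≫ ρ i = 1 := (E i).θ_injective (by rw [hρ, map_one, map_one, map_one])
    rw [one_eq_one, one_eq_one, ← pt_comp, h1]
  have hNoe : IsLocallyNoetherian D.A.left := LocallyOfFiniteType.isLocallyNoetherian D.A.hom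
  have hNoeE : ∀ i, IsLocallyNoetherian (E i).A.left := fun i =>
    LocallyOfFiniteType.isLocallyNoetherian (E i).A.hom
  have h1 := K379.LocDim.dim_stalk_le_sum (fun i => (ρ i).left) (pt η[D.A]) (by
    intro y hy hyρ
    have h2 : IsClosed ({y} : Set D.A.left) :=
      isClosed_of_trivial D F hF hrig N hN n hcov E ρ hρ y fun i => (hyρ i).trans (hone i)
    have h3 := hy.mem_closure
    rw [h2.closure_eq] at h3
    exact h3.symm)
  rw [S0354.result k D.A _ (isClosed_pt (X := D.A) _)] at h1
  refine h1.trans ?_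
  have h2 : ∀ i, (maximalIdeal ((E i).A.left.presheaf.stalk ((ρ i).left (pt η[D.A])))).spanFinrank ≤
      Module.finrank k (Coh.HH (N i) (Coh.structureModule (N i)) 1) := by
    intro i
    have h3 : IsRegularLocalRing ((E i).A.left.presheaf.stalk ((ρ i).left (pt η[D.A]))) :=
      Lefpen.H705.ClosedPoint.isRegularLocalRing_stalk (E i).A.hom _
    have h4 := h3.spanFinrank_maximalIdeal
    have h5 : ringKrullDim ((E i).A.left.presheaf.stalk ((ρ i).left (pt η[D.A]))) =
        topologicalKrullDim (E i).A.left := by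
      refine S0354.result k (E i).A _ ?_
      rw [hone]
      exact isClosed_pt (X := (E i).A) _
    have h6 := (E i).dim_le
    rw [← h5, ← h4] at h6
    exact_mod_cast h6
  exact_mod_cast Finset.sum_le_sum fun i _ => h2 i

end Main

end K379.FibGen
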