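import Groth.Agent.Surf.K379.Rig
import Groth.Agent.Surf.K379.FibGen
import Groth.Agent.Surf.K379.Fib
import Groth.Agent.PosLin.K931.UnitInv
import Groth.Agent.S2431

/-!
# Semistable fibrations over a rational curve: the dimension of the Picard variety is at most the sum of the genera of the
normalised components of any closed fibre
-/

set_option autoImplicit false
universe u
open CategoryTheory CategoryTheory.Limits AlgebraicGeometry Opposite
open MonoidalCategory CartesianMonoidalCategory

namespace K379.FibE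

open Groth.Agent Groth.Agent.Grpsch.PicGrp K856.PicA K856.Alb K379.Core K379.Fib

variable {k : Type u} [Field k] [IsAlgClosed k] {X C : Scheme.{u}} [X.Over (Spec (CommRingCat.of k))]
  [C.Over (Spec (CommRingCat.of k))] {f : X ⟶ C} {g : ℕ}

theorem isIso_app (h : IsIso (ClSub.unitToPush f)) (U : C.Opens) : IsIso (f.app U) := by
  rw [ConcreteCategory.isIso_iff_bijective]
  exact K931.UnitInv.bijective_app_of_isIso f h U

theorem isProper (hp : IsProper (X ↘ Spec (CommRingCat.of k))) (hC : IsProper (C ↘ Spec (CommRingCat.of k)))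
    (hov : f ≫ (C ↘ Spec (CommRingCat.of k)) = X ↘ Spec (CommRingCat.of k)) : IsProper f := by
  have : IsProper (f ≫ (C ↘ Spec (CommRingCat.of k))) := by rw [hov]; exact hp
  exact MorphismProperty.of_postcomp (W := @IsProper) (W' := @IsSeparated) f (C ↘ Spec (CommRingCat.of k))
    inferInstance this

/-- The fibres are connected. -/
theorem isPreconnected_fibre [IsProper f] [LocallyOfFiniteType (C ↘ Spec (CommRingCat.of k))]
    (hu : IsIso (ClSub.unitToPush f)) (s : C) : _root_.IsPreconnected (f ⁻¹' {s}) := by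
  have : IsLocallyNoetherian C := LocallyOfFiniteType.isLocallyNoetherian (C ↘ Spec (CommRingCat.of k))
  have h1 := (Groth.Agent.S2431.result f (isIso_app hu)).1 s
  rw [← f.range_fiberι s]
  exact isPreconnected_range (f.fiberι s).continuous

/-- Contracting a fibre is contracting everything. -/
theorem rig [IsIntegral X] [IsIntegral C] [IsProper (C ↘ Spec (CommRingCat.of k))] [Smooth (C ↘ Spec (CommRingCat.of k))]
    (hdim : topologicalKrullDim C = 1) (hg : Curv2.genus k C = 0)
    (hov : f ≫ (C ↘ Spec (CommRingCat.of k)) = X ↘ Spec (CommRingCat.of k)) [IsProper f] [Surjective f]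
    (hu : IsIso (ClSub.unitToPush f)) (s : C) : Rig k X (f ⁻¹' {s}) := by
  intro B hB hBp ψ y hy
  have : f.IsOver (Spec (CommRingCat.of k)) := ⟨hov⟩
  obtain ⟨σ, hσ, e⟩ := K379.Rig.const_of_fibre k X C hdim hg f f.isClosedMap (isIso_app hu) B ψ.left (Over.w ψ) s y
    (fun x hx => hy x hx)
  refine ⟨Over.homMk σ hσ, ?_⟩
  ext1
  exact e

section

variable (h : IsFib k f g) (hC0 : Curv2.genus k C = 0) (D : PZ k X)

include h hC0

/-- **The dimension of the Picard variety is at most the sum of the genera** of the curves of a covering family of a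
closed fibre. -/
theorem dim_le (s : C) {J : Type} [Fintype J] (N : J → Scheme.{u}) (n : ∀ i, N i ⟶ X)
    (hN : ∀ i, Curve.IsSmoothProperCurve k (N i) (n i ≫ (X ↘ Spec (CommRingCat.of k))))
    (hcov : ∀ x : X, f x = s → ∃ i, x ∈ Set.range (n i)) :
    topologicalKrullDim D.A.left ≤
      ((∑ i, @Curv2.genus k _ (N i) ⟨n i ≫ (X ↘ Spec (CommRingCat.of k))⟩ : ℕ) : WithBot ℕ∞) := by
  obtain ⟨h1, h2, h3, h4, h5, h6, h7, h8, h9, h10, h11, h12, h13⟩ := h
  have hp := isProper h1 h5 h9
  letI : ∀ i, (N i).Over (Spec (CommRingCat.of k)) := fun i => ⟨n i ≫ (X ↘ Spec (CommRingCat.of k))⟩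
  have hn : ∀ i, (n i).IsOver (Spec (CommRingCat.of k)) := fun i => ⟨rfl⟩
  exact K379.FibGen.dim_le_sum D (f ⁻¹' {s}) (isPreconnected_fibre (k := k) h11 s) (rig h8 hC0 h9 h11 s) N hN n hcov

/-- Finiteness of the kernel of the restriction of the Picard variety to the curves of a covering family of a
closed fibre. -/
theorem finite_ker (s : C) {J : Type} [Fintype J] (N : J → Scheme.{u}) (n : ∀ i, N i ⟶ X)
    (hN : ∀ i, Curve.IsSmoothProperCurve k (N i) (n i ≫ (X ↘ Spec (CommRingCat.of k))))
    (hcov : ∀ x : X, f x = s → ∃ i, x ∈ Set.range (n i)) :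
    Set.Finite {a : 𝟙_ (Over (Spec (CommRingCat.of k))) ⟶ D.A | ∀ i, pull (n i) (D.θ a) = 1} := by
  obtain ⟨h1, h2, h3, h4, h5, h6, h7, h8, h9, h10, h11, h12, h13⟩ := h
  have hp := isProper h1 h5 h9
  letI : ∀ i, (N i).Over (Spec (CommRingCat.of k)) := fun i => ⟨n i ≫ (X ↘ Spec (CommRingCat.of k))⟩
  have hn : ∀ i, (n i).IsOver (Spec (CommRingCat.of k)) := fun i => ⟨rfl⟩
  exact K379.FibGen.finite_ker D (f ⁻¹' {s}) (isPreconnected_fibre (k := k) h11 s) (rig h8 hC0 h9 h11 s) N hN n hcov

end

end K379.FibE
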