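import Groth.Agent.Surf.K627.Fin
import Groth.Agent.Surf.K464.Cohom
import Groth.Agent.Surf.K379.FibE
import Groth.Agent.Ega1.GenPts
import Groth.Agent.CalgA.RegBasic
import Groth.Agent.VarietyA.CurveFin
import Groth.Agent.S1535

/-!
# The smooth closed fibres of a semistable fibration are curves of genus `g`
-/

set_option autoImplicit false
set_option linter.unusedSectionVars false
universe u
open CategoryTheory CategoryTheory.Limits AlgebraicGeometry Opposite TopologicalSpace
open MonoidalCategory CartesianMonoidalCategory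

namespace K379.FibSm

open Groth.Agent Groth.Agent.Grpsch.PicGrp K856.PicA K379.Fib K464.Base K464.Curves K464.Cohom

variable {k : Type u} [Field k] [IsAlgClosed k] {X C : Scheme.{u}} [X.Over (Spec (CommRingCat.of k))]
  [C.Over (Spec (CommRingCat.of k))] {f : X ⟶ C} {g : ℕ}

theorem isIntegral_of_connected {Y : Scheme.{u}} (q : Y ⟶ Spec (CommRingCat.of k)) [Smooth q]
    [ConnectedSpace Y] : IsIntegral Y := by
  have : IsLocallyNoetherian Y := LocallyOfFiniteType.isLocallyNoetherian q
  refine (Groth.Agent.Ega1.GenPts.isIntegral_iff Y).2 ⟨inferInstance, fun x => ?_⟩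
  let o : Y.Over (Spec (CommRingCat.of k)) := ⟨q⟩
  have h : Smooth (Y ↘ (Spec (CommRingCat.of k))) := inferInstanceAs (Smooth q)
  have : IsRegularLocalRing (Y.presheaf.stalk x) := Groth.Agent.S1535.result k Y x
  exact Groth.Agent.CalgA.RegBasic.isDomain _

theorem isClosedImmersion_fiberι (f : X ⟶ C) {s : C} (hs : IsClosed ({s} : Set C)) : IsClosedImmersion (f.fiberι s) := by
  have := isClosed_singleton_iff_isClosedImmersion.1 hs
  exact MorphismProperty.of_isPullback (K627.SurfFin.isPullback_fiber f s).flip this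

/-- The fibre is isomorphic to the subscheme of its kernel ideal. -/
theorem exists_iso (f : X ⟶ C) {s : C} (hs : IsClosed ({s} : Set C)) :
    ∃ e : f.fiber s ≅ (f.fiberι s).ker.subscheme, e.hom ≫ (f.fiberι s).ker.subschemeι = f.fiberι s := by
  have := isClosedImmersion_fiberι f hs
  exact ⟨asIso (f.fiberι s).toImage, (f.fiberι s).toImage_imageι⟩

/-- A smooth closed fibre is a smooth proper curve over `k`. -/
theorem isSmoothProperCurve (h : IsFib k f g) {s : C} (hs : IsClosed ({s} : Set C))
    (hsm : Smooth (f.fiberToSpecResidueField s)) :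
    Curve.IsSmoothProperCurve k (f.fiberι s).ker.subscheme
      ((f.fiberι s).ker.subschemeι ≫ (X ↘ Spec (CommRingCat.of k))) := by
  obtain ⟨h1, h2, h3, h4, h5, h6, h7, h8, h9, h10, h11, h12, h13⟩ := h
  have hp := FibE.isProper h1 h5 h9
  have hci := isClosedImmersion_fiberι f hs
  obtain ⟨e, he⟩ := exists_iso f hs
  have hstr : f.fiberι s ≫ (X ↘ Spec (CommRingCat.of k)) =
      f.fiberToSpecResidueField s ≫ Spec.map (residueFieldIsoBase (C ↘ Spec (CommRingCat.of k)) s hs).inv := by
    rw [SpecMap_residueFieldIsoBase_inv, ← h9, ← Category.assoc, ← Category.assoc]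
    congr 1
    exact (K627.SurfFin.isPullback_fiber f s).w
  have he' : (f.fiberι s).ker.subschemeι = e.inv ≫ f.fiberι s := ((Iso.inv_comp_eq e).2 he.symm).symm
  have hstr' : (f.fiberι s).ker.subschemeι ≫ (X ↘ Spec (CommRingCat.of k)) =
      e.inv ≫ f.fiberToSpecResidueField s ≫
        Spec.map (residueFieldIsoBase (C ↘ Spec (CommRingCat.of k)) s hs).inv := by
    rw [he', Category.assoc, hstr]
  have hN : IsLocallyNoetherian C := LocallyOfFiniteType.isLocallyNoetherian (C ↘ Spec (CommRingCat.of k))
  have hcon : ConnectedSpace (f.fiber s) := (Groth.Agent.S2431.result f (FibE.isIso_app h11)).1 s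
  have hconI : ConnectedSpace (f.fiberι s).ker.subscheme :=
    (TopCat.homeoOfIso (Scheme.forgetToTop.mapIso e)).surjective.connectedSpace
      (TopCat.homeoOfIso (Scheme.forgetToTop.mapIso e)).continuous
  have hsmI : Smooth ((f.fiberι s).ker.subschemeι ≫ (X ↘ Spec (CommRingCat.of k))) := by
    rw [hstr']
    infer_instance
  have hint : IsIntegral (f.fiberι s).ker.subscheme := isIntegral_of_connected
    ((f.fiberι s).ker.subschemeι ≫ (X ↘ Spec (CommRingCat.of k)))
  refine ⟨inferInstance, hsmI, hint, ?_⟩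
  have hdim := (h12.2.2 s).1
  have hintF : IsIntegral (f.fiber s) := isIntegral_of_isOpenImmersion e.hom
  have h14 : topologicalKrullDim (Set.univ : Set (f.fiber s)) = 1 :=
    hdim Set.univ (by rw [irreducibleComponents_eq_singleton]; rfl)
  have h15 : topologicalKrullDim (f.fiber s) = 1 := by
    rw [← h14]
    exact ((Homeomorph.Set.univ (f.fiber s)).isHomeomorph.topologicalKrullDim_eq _).symm
  rw [← h15]
  exact ((TopCat.homeoOfIso (Scheme.forgetToTop.mapIso e)).isHomeomorph.topologicalKrullDim_eq _).symm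

/-- The genus of a smooth closed fibre with `χ(O) = 1 - g` is `g`. -/
theorem genus_eq (h : IsFib k f g) {s : C} (hs : IsClosed ({s} : Set C))
    (hsm : Smooth (f.fiberToSpecResidueField s))
    (he : Curv2.euler k X (ClSub.quotMod (f.fiberι s).ker) = 1 - (g : ℤ)) :
    @Curv2.genus k _ (f.fiberι s).ker.subscheme
      ⟨(f.fiberι s).ker.subschemeι ≫ (X ↘ Spec (CommRingCat.of k))⟩ = g := by
  obtain ⟨h1, h2, h3, h4⟩ := isSmoothProperCurve h hs hsm
  have hpX := h.pX
  let _ := overC k X (f.fiberι s).ker
  have hp : IsProper ((f.fiberι s).ker.subscheme ↘ Spec (CommRingCat.of k)) := h1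
  have h0 := Groth.Agent.VarietyA.CurveFin.finrank_h0_structure k (f.fiberι s).ker.subscheme
  have hd : topologicalKrullDim ((f.fiberι s).ker.support : Set X) ≤ 1 := by
    rw [← dim_sub, h4]
  have h5 := euler_quot_eq k (f.fiberι s).ker hd
  rw [he, (hhSub0 k (f.fiberι s).ker 0).finrank_eq, (hhSub0 k (f.fiberι s).ker 1).finrank_eq, h0] at h5
  have h6 : (Module.finrank k (Coh.HH (f.fiberι s).ker.subscheme
      (Coh.structureModule (f.fiberι s).ker.subscheme) 1) : ℤ) = g := by
    push_cast at h5
    linarith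
  exact_mod_cast h6

/-- The dimension of the Picard variety is at most `g`. -/
theorem dim_le_genus (h : IsFib k f g) (hC0 : Curv2.genus k C = 0) (D : PZ k X) :
    topologicalKrullDim D.A.left ≤ (g : WithBot ℕ∞) := by
  obtain ⟨s, hs, hsm, he⟩ := h.fib
  have h1 := FibE.dim_le h hC0 D s (J := Unit) (fun _ => (f.fiberι s).ker.subscheme)
    (fun _ => (f.fiberι s).ker.subschemeι) (fun _ => isSmoothProperCurve h hs hsm) (by
      intro x hx
      refine ⟨(), ?_⟩
      obtain ⟨y, rfl⟩ := K627.SurfFin.exists_fiberι f s hx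
      obtain ⟨e, he⟩ := exists_iso f hs
      exact ⟨e.hom y, by rw [← Scheme.Hom.comp_apply, he]⟩)
  refine h1.trans (le_of_eq ?_)
  rw [Finset.univ_unique, Finset.sum_singleton, genus_eq h hs hsm he]

/-- Finiteness of the kernel of the restriction to a smooth closed fibre. -/
theorem finite_ker (h : IsFib k f g) (hC0 : Curv2.genus k C = 0) (D : PZ k X) {s : C} (hs : IsClosed ({s} : Set C))
    (hsm : Smooth (f.fiberToSpecResidueField s)) :
    Set.Finite {a : 𝟙_ (Over (Spec (CommRingCat.of k))) ⟶ D.A |
      pull (f.fiberι s).ker.subschemeι (D.θ a) = 1} := by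
  refine (FibE.finite_ker h hC0 D s (J := Unit) (fun _ => (f.fiberι s).ker.subscheme)
    (fun _ => (f.fiberι s).ker.subschemeι) (fun _ => isSmoothProperCurve h hs hsm) (by
      intro x hx
      refine ⟨(), ?_⟩
      obtain ⟨y, rfl⟩ := K627.SurfFin.exists_fiberι f s hx
      obtain ⟨e, he⟩ := exists_iso f hs
      exact ⟨e.hom y, by rw [← Scheme.Hom.comp_apply, he]⟩)).subset ?_
  intro a ha i
  exact ha

end K379.FibSm
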