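import Groth.Agent.Surf.K379.FibIrr
import Groth.Agent.Surf.K379.FibSm
import Groth.Agent.Surf.K580.FibMain

/-!
# A fibre with a component of arithmetic genus `g = dim Pic⁰ X` is smooth
-/

set_option autoImplicit false
universe u
open CategoryTheory CategoryTheory.Limits AlgebraicGeometry Opposite TopologicalSpace
open MonoidalCategory CartesianMonoidalCategory

namespace K379.FibSmo

open Groth.Agent Groth.Agent.Grpsch.PicGrp K856.PicA K379.Fib K464.Base K464.Curves K464.PtCurve K464.FibCurve K993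

variable {k : Type u} [Field k] [IsAlgClosed k] {X C : Scheme.{u}} [X.Over (Spec (CommRingCat.of k))]
  [C.Over (Spec (CommRingCat.of k))] {f : X ⟶ C} {g : ℕ}

/-- No exceptional curves in the fibres. -/
def Min (k : Type u) [Field k] {X C : Scheme.{u}} [X.Over (Spec (CommRingCat.of k))] [IsProper (X ↘ Spec (CommRingCat.of k))]
    (f : X ⟶ C) : Prop :=
  ∀ (E : X.IdealSheafData) (_ : IsCurve E) (hEe : BlowUp.IsEffCartierIdeal E),
      (∃ b : C, ∀ x : X, x ∈ E.support → f x = b) → Curv2.euler k X (ClSub.quotMod E) = 1 →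
      dot k X (ic E hEe) (ic E hEe) ≠ -1

theorem eq_of_pow_reduced {Y : Scheme.{u}} (i : Y ⟶ X) [IsReduced Y] [QuasiCompact i] {D : X.IdealSheafData} {n : ℕ}
    (hn : 0 < n) (h : i.ker = D ^ n) : i.ker = D := by
  have h1 : i.ker.radical = i.ker := Ega1.ReducedSub.radical_ker_eq i
  refine le_antisymm ?_ ?_
  · rw [h]
    intro U
    exact Ideal.pow_le_self hn.ne'
  · rw [← h1, h]
    intro U a ha
    exact ⟨n, Ideal.pow_mem_pow ha n⟩

theorem smooth_fibre [LocallyOfFinitePresentation f] [IsProper (X ↘ Spec (CommRingCat.of k))] (h : IsFib k f g)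
    (hg1 : 1 ≤ g) (hmin : Min k f) (hC0 : Curv2.genus k C = 0) (D : PZ k X) (hq : topologicalKrullDim D.A.left = g) {s : C}
    (hs : IsClosed ({s} : Set C)) {Γ : X.IdealSheafData} (hΓ : Γ ∈ vc f s)
    (hχ : Curv2.euler k X (ClSub.quotMod Γ) ≤ 1 - (g : ℤ)) :
    Smooth (f.fiberToSpecResidueField s) ∧ (f.fiberι s).ker = Γ := by
  have i2 := h.sX
  have i3 := h.iX
  have i4 := h.pC
  have i5 := h.sC
  have i6 := h.iC
  have i7 := h.sur
  have i8 := h.nod.1
  have hdom : IsDominant f := ⟨i7.surj.denseRange⟩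
  have hregC : ∀ c : C, IsRegularLocalRing (C.presheaf.stalk c) := fun c => S1535.result k C c
  obtain ⟨W, hW, hWi⟩ : ∃ W : X.Modules, ExtPow.IsExtPow 2 (Omega.sheaf (X ↘ Spec (CommRingCat.of k))) W ∧
      PicF.IsInvertible W := by
    have hr2 : SmoothOfRelativeDimension 2 (X ↘ Spec (CommRingCat.of k)) :=
      Picfga.CurveRelDim.smoothOfRelativeDimension_of_topologicalKrullDim_eq k X _ 2 h.dX
    exact K455.Canon.exists_canonical _ 2
  obtain ⟨q, hq', hsm, hg⟩ := h.fib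
  have hΓc : IsCurve Γ := ⟨hΓ.1, hΓ.2.1⟩
  obtain ⟨n, hn, hFn⟩ := K379.FibIrr.fibre_eq_pow k f h.ovr h.dX h.dC hregC hW hWi h.conn hq' hg1 hg hΓc
    (fun E hE hEe hv hE1 => hmin E hE hEe hv hE1) hs (fun x hx => hΓ.2.2 hx) hχ
  have hker := VertCan.ker_fiberι f hs
  have := K627.SurfFin.isProper_f h
  have := K627.SurfFin.isReduced_fiber h s
  have := K627.SurfFin.isNoetherian_fiber h s
  have := K627.SurfFin.isNoetherian_X h
  have hΓeq : (f.fiberι s).ker = Γ := eq_of_pow_reduced (f.fiberι s) hn (hker.trans hFn)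
  refine ⟨?_, hΓeq⟩
  have hvc : vc f s = {Γ} := by
    ext Γ'
    refine ⟨fun h' => ?_, fun h' => by rw [Set.mem_singleton_iff.1 h']; exact hΓ⟩
    have hΓ'c : IsCurve Γ' := ⟨h'.1, h'.2.1⟩
    have h1 := Vert.fibre_le f hΓ'c hs (fun x hx => h'.2.2 hx)
    rw [← hker, hΓeq] at h1
    exact (eq_of_gp_mem hΓ'c hΓc (Scheme.IdealSheafData.support_antitone h1 (gp_mem hΓ'c)))
  obtain ⟨ι, _, N, m, hN, hcov, hgen⟩ := K580.FibMain.fibre k f g h s hs
  have h1 := FibE.dim_le h hC0 D s N m hN (fun x hx => (hcov x).1 hx)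
  rw [hq] at h1
  have h2 : g ≤ ∑ i, @Curv2.genus k _ (N i) ⟨m i ≫ (X ↘ Spec (CommRingCat.of k))⟩ := by exact_mod_cast h1
  rw [hvc, Set.ncard_singleton] at hgen
  have h3 : (sg f s).ncard = 0 := by omega
  have h4 := (Set.ncard_eq_zero (K627.SurfFin.finite_sg h hs).1).1 h3
  refine (K627.SurfFin.smooth_fiber_iff f s).2 fun x hx => ?_
  by_contra hx'
  have : x ∈ sg f s := ⟨hx, hx'⟩
  rw [h4] at this
  exact this

end K379.FibSmo
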