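import Groth.Agent.Surf.K379.FibDom
import Groth.Agent.Surf.K379.FibSmo
import Groth.Agent.Surf.K130.GenusDom

/-!
# All closed fibres are smooth and dominate the Albanese curve
-/

set_option autoImplicit false
universe u
open CategoryTheory CategoryTheory.Limits AlgebraicGeometry Opposite TopologicalSpace
open MonoidalCategory CartesianMonoidalCategory

namespace K379.FibAll

open Groth.Agent Groth.Agent.Grpsch.PicGrp Groth.Agent.Pic13.H138.AlgEquiv K856.PicA K379.Fib K379.FibSmo K464.Base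
  K464.Curves

variable {k : Type u} [Field k] [IsAlgClosed k] {X C : Scheme.{u}} [X.Over (Spec (CommRingCat.of k))]
  [C.Over (Spec (CommRingCat.of k))] {f : X ⟶ C} {g : ℕ}

theorem fibre_facts [CharZero k] [IsProper (X ↘ Spec (CommRingCat.of k))] [LocallyOfFinitePresentation f]
    (h : IsFib k f g) (hC0 : Curv2.genus k C = 0) (hg1 : 1 ≤ g) (hmin : Min k f)
    (D : PZ k X) (hq : topologicalKrullDim D.A.left = g) {E : Scheme.{u}} [E.Over (Spec (CommRingCat.of k))]
    (hE : Curve.IsSmoothProperCurve k E (E ↘ Spec (CommRingCat.of k))) (hgE : Curv2.genus k E = g) (θ : X ⟶ E)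
    (hθ : θ ≫ (E ↘ Spec (CommRingCat.of k)) = X ↘ Spec (CommRingCat.of k))
    (halg : ∀ c ∈ alg0 k X, ∃ d : Pic E, pull θ d = c) {s : C} (hs : IsClosed ({s} : Set C)) :
    Smooth (f.fiberToSpecResidueField s) ∧ IsDominant ((f.fiberι s).ker.subschemeι ≫ θ) := by
  obtain ⟨Γ, hΓ, hd⟩ := FibDom.exists_curve h hC0 D hq hg1 hE θ halg hs
  have hi := hΓ.1
  let _ := overC k X Γ
  have hp := isProper_sub k X Γ
  have hdim : topologicalKrullDim Γ.subscheme = 1 := (dim_sub X Γ).trans hΓ.2.1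
  have h1 : Curv2.genus k E ≤ Curv2.genus k Γ.subscheme :=
    K130.GenusDom.genus_le_of_dominant k hdim hE (by rw [hgE]; exact hg1) (Γ.subschemeι ≫ θ)
      (by rw [Category.assoc, hθ]; rfl) hd
  have hχ : Curv2.euler k X (ClSub.quotMod Γ) ≤ 1 - (g : ℤ) := by
    rw [K464.Curves.euler_quotMod_sub, CurvesC.CurveCoh.euler_eq k Γ.subscheme hdim,
      VarietyA.CurveFin.finrank_h0_structure k Γ.subscheme]
    have h2 : (Module.finrank k (Coh.HH Γ.subscheme (Coh.structureModule Γ.subscheme) 1) : ℤ) =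
      Curv2.genus k Γ.subscheme := rfl
    have h3 : (g : ℤ) ≤ Curv2.genus k Γ.subscheme := by
      rw [← hgE]; exact_mod_cast h1
    rw [h2]
    push_cast
    linarith
  obtain ⟨h4, h5⟩ := smooth_fibre h hg1 hmin hC0 D hq hs hΓ hχ
  exact ⟨h4, by rw [h5]; exact hd⟩

end K379.FibAll
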