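import Groth.Agent.Surf.K993.VertCan
import Groth.Agent.Surf.K627.Fin

/-!
# A fibre with a component of arithmetic genus at least `g` is integral

`f : X ⟶ B` relatively minimal fibration of genus `g ≥ 1` of a smooth proper surface. `K.D ≥ 0` for vertical curves
`D`; if `χ(O_D) ≤ 1 - g`, the fibre is a multiple of `D`.
-/

set_option autoImplicit false
universe u
open CategoryTheory CategoryTheory.Limits AlgebraicGeometry Opposite TopologicalSpace

namespace K379.FibIrr

open Groth.Agent Groth.Agent.Grpsch.PicGrp Groth.Agent.Fga.PicMon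
open K464.Base K464.Curves K464.DegCurve K464.Cohom K464.PtCurve K464.FibCurve K464.DivLat K993

variable (k : Type u) [Field k] [IsAlgClosed k] {X B : Scheme.{u}} [X.Over (Spec (CommRingCat.of k))]
  [B.Over (Spec (CommRingCat.of k))] [IsProper (X ↘ Spec (CommRingCat.of k))] [IsProper (B ↘ Spec (CommRingCat.of k))]
  [IsIntegral X] [IsIntegral B] [Smooth (X ↘ Spec (CommRingCat.of k))] (f : X ⟶ B) [IsDominant f]
  (hf : f ≫ (B ↘ Spec (CommRingCat.of k)) = X ↘ Spec (CommRingCat.of k))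
  (hX : topologicalKrullDim X = 2) (hB : topologicalKrullDim B = 1)
  (hreg : ∀ b : B, IsRegularLocalRing (B.presheaf.stalk b))
  {W : X.Modules} (hW : ExtPow.IsExtPow 2 (Omega.sheaf (X ↘ (Spec (CommRingCat.of k)))) W)
  (hWi : PicF.IsInvertible W) (hconn : IsIso (ClSub.unitToPush f)) {b₀ : B} (hb₀ : IsClosed ({b₀} : Set B)) {g : ℕ}
  (hg1 : 1 ≤ g) (hg : Curv2.euler k X (ClSub.quotMod (f.fiberι b₀).ker) = 1 - (g : ℤ))

include hf hX hB hreg hW hconn hb₀ hg1 hg

/-- `K.D ≥ 0` for the vertical curves of a relatively minimal fibration of genus at least one. -/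
theorem degOn_nonneg {D : X.IdealSheafData} (hD : IsCurve D) (hDe : BlowUp.IsEffCartierIdeal D)
    (hmin : Curv2.euler k X (ClSub.quotMod D) = 1 → dot k X (ic D hDe) (ic D hDe) ≠ -1)
    {b : B} (hb : IsClosed ({b} : Set B)) (hv : ∀ x : X, x ∈ D.support → f x = b) :
    0 ≤ degOn k X D (mk W hWi) := by
  have h1' := K456.Adj.adjunction_curve k hX hW hWi hD hDe
  have h1 := K456.Adj.adjunction k hX hW hWi hDe
  have h2 := Vert.dot_self_le k f hf hX hB hreg hD hDe hb hv
  have h3 : dot k X (ic D hDe) (mk W hWi) = - degOn k X D (mk W hWi) := dot_ic_eq k X hDe _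
  have h7 : (1 : ℤ) ≤ g := by exact_mod_cast hg1
  by_cases h0 : dot k X (ic D hDe) (ic D hDe) = 0
  · obtain ⟨n, hn, hFn⟩ := Vert.fibre_eq_pow k f hf hX hB hreg hconn hD hDe hb hv h0
    have hEF : BlowUp.IsEffCartierIdeal ((pt hb).comap f) :=
      isEff_fibre f hB hb (isEff_pt k (B ↘ Spec (CommRingCat.of k)) hB hreg hb)
    have h5 := VertCan.degOn_fibre_canonical k f hf hX hB hreg hW hWi hb₀ hg hb
    have h6 := dot_ic_eq k X hEF (mk W hWi)
    rw [ic_congr hEF (Divis.EffCartier.isEff_pow hDe n) hFn, ic_pow hDe n, dot_pow_left k X hX.le, h3, h5] at h6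
    have h8 : 0 ≤ (n : ℤ) * degOn k X D (mk W hWi) := by linarith
    exact nonneg_of_mul_nonneg_right h8 (by exact_mod_cast hn)
  · have h12 : dot k X (ic D hDe) (ic D hDe) < 0 := lt_of_le_of_ne h2 h0
    by_contra hneg
    push Not at hneg
    set h := (@Module.finrank k (Coh.HH D.subscheme (Coh.structureModule D.subscheme) 1) _ _
        (letI := overC k X D; inferInstance)) with hh
    rw [h3] at h1' h1
    have h9 : Curv2.euler k X (ClSub.quotMod D) = 1 - h := by linarith
    have h10 : (0 : ℤ) ≤ h := Int.natCast_nonneg _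
    have h11 : (h : ℤ) = 0 := by omega
    rw [h11] at h9 h1'
    exact hmin (by rw [h9]; simp) (by omega)

include hWi in
/-- A fibre with a component `D` of arithmetic genus at least `g` is a multiple of `D`. -/
theorem fibre_eq_pow {D : X.IdealSheafData} (hD : IsCurve D)
    (hmin : ∀ (E : X.IdealSheafData) (_ : IsCurve E) (hEe : BlowUp.IsEffCartierIdeal E),
      (∃ b : B, ∀ x : X, x ∈ E.support → f x = b) → Curv2.euler k X (ClSub.quotMod E) = 1 →
      dot k X (ic E hEe) (ic E hEe) ≠ -1)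
    {b : B} (hb : IsClosed ({b} : Set B)) (hv : ∀ x : X, x ∈ D.support → f x = b)
    (hχ : Curv2.euler k X (ClSub.quotMod D) ≤ 1 - (g : ℤ)) :
    ∃ n : ℕ, 0 < n ∧ (pt hb).comap f = D ^ n := by
  have hDe : BlowUp.IsEffCartierIdeal D := isEff_of_smooth k hX hD
  have hEF : BlowUp.IsEffCartierIdeal ((pt hb).comap f) :=
    isEff_fibre f hB hb (isEff_pt k (B ↘ Spec (CommRingCat.of k)) hB hreg hb)
  obtain ⟨r, C, n, hC, hinj, hn, hE, j, hF, hj, hle, -⟩ := Vert.exists_cycle k f hf hX hB hreg hD hb hv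
  have hvert : ∀ i, ∀ x : X, x ∈ (C i).support → f x = b := fun i x hx =>
    (Vert.mem_support_fibre hb x).1 (Scheme.IdealSheafData.support_antitone (hle i) hx)
  have hnn : ∀ i, 0 ≤ degOn k X (C i) (mk W hWi) := fun i =>
    degOn_nonneg k f hf hX hB hreg hW hWi hconn hb₀ hg1 hg (hC i) (hE i) (hmin (C i) (hC i) (hE i) ⟨b, hvert i⟩) hb
      (hvert i)
  have h5 := VertCan.degOn_fibre_canonical k f hf hX hB hreg hW hWi hb₀ hg hb
  have h6 := dot_ic_eq k X hEF (mk W hWi)
  rw [ic_congr hEF (isEff_cyc hE n) hF, dot_cyc_left k hE hX.le n, h5] at h6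
  have h7 : ∑ i, (n i : ℤ) * degOn k X (C i) (mk W hWi) = 2 * g - 2 := by
    have : ∀ i, dot k X (ic (C i) (hE i)) (mk W hWi) = - degOn k X (C i) (mk W hWi) := fun i => dot_ic_eq k X (hE i) _
    simp only [this, mul_neg, Finset.sum_neg_distrib] at h6
    linarith
  have h8 : (n j : ℤ) * degOn k X (C j) (mk W hWi) ≤ 2 * g - 2 := by
    rw [← h7]
    exact Finset.single_le_sum (f := fun i => (n i : ℤ) * degOn k X (C i) (mk W hWi))
      (fun i _ => mul_nonneg (Int.natCast_nonneg _) (hnn i)) (Finset.mem_univ j)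
  rw [hj] at h8
  have hnD : 0 ≤ degOn k X D (mk W hWi) := by rw [← hj]; exact hnn j
  have h9 : degOn k X D (mk W hWi) ≤ 2 * g - 2 := by
    refine le_trans ?_ h8
    have : (1 : ℤ) ≤ n j := by exact_mod_cast hn j
    nlinarith
  have h1 := K456.Adj.adjunction k hX hW hWi hDe
  have h3 : dot k X (ic D hDe) (mk W hWi) = - degOn k X D (mk W hWi) := dot_ic_eq k X hDe _
  have h2 := Vert.dot_self_le k f hf hX hB hreg hD hDe hb hv
  have h0 : dot k X (ic D hDe) (ic D hDe) = 0 := by linarith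
  exact Vert.fibre_eq_pow k f hf hX hB hreg hconn hD hDe hb hv h0

end K379.FibIrr
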