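import Groth.Agent.S12490
import Groth.Agent.S0354
import Groth.Agent.Sga3C.LocConn
import Groth.Agent.Biell.K856.PicA

/-!
# In characteristic zero the Picard variety has dimension `h¹(O_X)`
-/

set_option autoImplicit false
set_option linter.unusedSectionVars false
universe u
open CategoryTheory CategoryTheory.Limits AlgebraicGeometry Opposite TopologicalSpace
open MonoidalCategory CartesianMonoidalCategory MonObj

namespace K379.PicDim

open Groth.Agent K856.PicA
open Groth.Agent.Books.AlgPts Groth.Agent.Books.AlgPtsIrred Groth.Agent.Books.AlgPtsGrp Groth.Agent.Books.AlgPtsSmooth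

variable {k : Type u} [Field k] [IsAlgClosed k] {X : Scheme.{u}} [X.Over (Spec (CommRingCat.of k))]

/-- The Picard variety is open in a smooth Picard scheme. -/
theorem isOpenImmersion_inc (D : PZ k X) (hP : Smooth D.P.hom) : IsOpenImmersion D.inc.left := by
  have hN : IsLocallyNoetherian D.P.left := LocallyOfFiniteType.isLocallyNoetherian D.P.hom
  have hL : LocallyConnectedSpace D.P.left :=
    Sga3C.LocConn.locallyConnectedSpace_of_isLocallyNoetherian D.P.left
  let U : D.P.left.Opens := ⟨connectedComponent (pt η[D.P]), isOpen_connectedComponent⟩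
  have hr : Set.range D.inc.left ⊆ Set.range U.ι := by
    rw [D.range, Scheme.Opens.range_ι]
    exact subset_rfl
  let i' : D.A.left ⟶ U := IsOpenImmersion.lift U.ι D.inc.left hr
  have hi' : i' ≫ U.ι = D.inc.left := IsOpenImmersion.lift_fac _ _ _
  have hc : IsClosedImmersion i' := by
    have : IsClosedImmersion (i' ≫ U.ι) := by rw [hi']; infer_instance
    exact IsClosedImmersion.of_comp i' U.ι
  have hs : Surjective i' := by
    refine ⟨fun x => ?_⟩
    have h1 : U.ι x ∈ Set.range D.inc.left := by
      rw [D.range]
      exact x.2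
    obtain ⟨a, ha⟩ := h1
    refine ⟨a, U.ι.isOpenEmbedding.injective ?_⟩
    rw [← ha, ← hi', Scheme.Hom.comp_apply]
  have hR : IsReduced D.P.left := isReduced_of_smooth D.P
  have hi : IsIso i' := isIso_of_isClosedImmersion_of_surjective i'
  rw [← hi']
  infer_instance

/-- In characteristic zero, `dim Pic⁰ = h¹(O_X)`. -/
theorem dim_eq [CharZero k] [IsProper (X ↘ Spec (CommRingCat.of k))] (D : PZ k X) :
    topologicalKrullDim D.A.left =
      (Module.finrank k (Coh.HH X (Coh.structureModule X) 1) : WithBot ℕ∞) := by
  obtain ⟨φ, hφ⟩ := D.rep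
  obtain ⟨hP, hd⟩ := S12490.result k X D.P φ hφ
  have ho := isOpenImmersion_inc D hP
  have hcA : IsClosed ({pt η[D.A]} : Set D.A.left) := isClosed_pt _
  have hcP : IsClosed ({D.inc.left (pt η[D.A])} : Set D.P.left) := by
    rw [← Set.image_singleton]
    exact D.inc.left.isClosedEmbedding.isClosedMap _ hcA
  rw [← S0354.result k D.A _ hcA, ← hd _ hcP]
  exact (ringKrullDim_eq_of_ringEquiv (asIso (D.inc.left.stalkMap (pt η[D.A]))).commRingCatIsoToRingEquiv).symm

end K379.PicDim
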