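import Groth.Agent.Surf.K379.FibAll
import Groth.Agent.Surf.K379.EtaleFib
import Groth.Agent.Surf.K137.ProdCov

/-!
# A relatively minimal semistable fibration over a rational curve with `dim Pic⁰ X = g` and an Albanese curve is a product
-/

set_option autoImplicit false
universe u
open CategoryTheory CategoryTheory.Limits AlgebraicGeometry Opposite TopologicalSpace
open MonoidalCategory CartesianMonoidalCategory

namespace K379.Product

open Groth.Agent Groth.Agent.Grpsch.PicGrp Groth.Agent.Pic13.H138.AlgEquiv K856.PicA K379.Fib K379.FibSmo K464.Base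
  K464.Curves

variable {k : Type u} [Field k] [IsAlgClosed k] {X C : Scheme.{u}} [X.Over (Spec (CommRingCat.of k))]
  [C.Over (Spec (CommRingCat.of k))] {f : X ⟶ C} {g : ℕ}

/-- The Euler characteristic of the closed fibres is constant. -/
theorem euler_fibre (h : IsFib k f g) {s : C} (hs : IsClosed ({s} : Set C)) :
    Curv2.euler k X (ClSub.quotMod (f.fiberι s).ker) = 1 - (g : ℤ) := by
  have i1 := h.pX
  have i2 := h.sX
  have i3 := h.iX
  have i4 := h.pC
  have i5 := h.sC
  have i6 := h.iC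
  have i7 := h.sur
  have hdom : IsDominant f := ⟨i7.surj.denseRange⟩
  have hregC : ∀ c : C, IsRegularLocalRing (C.presheaf.stalk c) := fun c => S1535.result k C c
  obtain ⟨W, hW, hWi⟩ : ∃ W : X.Modules, ExtPow.IsExtPow 2 (Omega.sheaf (X ↘ Spec (CommRingCat.of k))) W ∧
      PicF.IsInvertible W := by
    have hr2 : SmoothOfRelativeDimension 2 (X ↘ Spec (CommRingCat.of k)) :=
      Picfga.CurveRelDim.smoothOfRelativeDimension_of_topologicalKrullDim_eq k X _ 2 h.dX
    exact K455.Canon.exists_canonical _ 2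
  obtain ⟨q, hq', hsm, hg⟩ := h.fib
  have h1 := K993.VertCan.degOn_fibre_canonical k f h.ovr h.dX h.dC hregC hW hWi hq' hg hs
  have h2 := K993.VertCan.degOn_fibre_eq k f h.ovr h.dX h.dC hregC hW hWi hs
  rw [K993.VertCan.ker_fiberι f hs]
  linarith

theorem exists_product [CharZero k] [LocallyOfFinitePresentation f] [IsProper (X ↘ Spec (CommRingCat.of k))]
    (N1 : ∀ {F E : Scheme.{u}} (p : F ⟶ Spec (CommRingCat.of k)) (q : E ⟶ Spec (CommRingCat.of k))
      (_ : Curve.IsSmoothProperCurve k F p)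
      (_ : Curve.IsSmoothProperCurve k E q) (θ : F ⟶ E) (_ : θ ≫ q = p) (_ : IsDominant θ)
      (_ : @Curv2.genus k _ F ⟨p⟩ = @Curv2.genus k _ E ⟨q⟩) (_ : 1 ≤ @Curv2.genus k _ E ⟨q⟩), IsFinite θ ∧ Etale θ)
    (h : IsFib k f g) (hC0 : Curv2.genus k C = 0) (hg1 : 1 ≤ g) (hmin : Min k f)
    (D : PZ k X) (hq : topologicalKrullDim D.A.left = g) {E : Scheme.{u}} [E.Over (Spec (CommRingCat.of k))]
    (hE : Curve.IsSmoothProperCurve k E (E ↘ Spec (CommRingCat.of k))) (hgE : Curv2.genus k E = g) (θ : X ⟶ E)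
    (hθ : θ ≫ (E ↘ Spec (CommRingCat.of k)) = X ↘ Spec (CommRingCat.of k))
    (halg : ∀ c ∈ alg0 k X, ∃ d : Pic E, pull θ d = c) :
    ∃ (F : Scheme.{u}) (q : F ⟶ Spec (CommRingCat.of k)) (e : X ≅ pullback q (C ↘ Spec (CommRingCat.of k))),
      e.hom ≫ pullback.snd q (C ↘ Spec (CommRingCat.of k)) = f := by
  have i4 := h.pC
  have i6 := h.iC
  have i8 := h.nod.1
  have i9 := h.iX
  have := K627.SurfFin.isProper_f h
  have := K627.SurfFin.isNoetherian_X h
  have hEp := hE.1
  have hw : θ ≫ (E ↘ Spec (CommRingCat.of k)) = f ≫ (C ↘ Spec (CommRingCat.of k)) := by rw [hθ, h.ovr]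
  have hfe : ∀ s : C, IsClosed ({s} : Set C) → Etale (f.fiberι s ≫ θ) := by
    intro s hs
    obtain ⟨hsm, hdom⟩ := FibAll.fibre_facts h hC0 hg1 hmin D hq hE hgE θ hθ halg hs
    obtain ⟨e, he⟩ := FibSm.exists_iso f hs
    have h1 := FibSm.genus_eq h hs hsm (euler_fibre h hs)
    have h2 := (N1 _ _ (FibSm.isSmoothProperCurve h hs hsm) hE ((f.fiberι s).ker.subschemeι ≫ θ)
      (by rw [Category.assoc, hθ]) hdom (h1.trans hgE.symm) (by
        change 1 ≤ Curv2.genus k E
        rw [hgE]; exact hg1)).2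
    rw [← he, Category.assoc]
    infer_instance
  have hφ : Etale (pullback.lift θ f hw : X ⟶ pullback (E ↘ Spec (CommRingCat.of k)) (C ↘ Spec (CommRingCat.of k))) :=
    EtaleFib.etale (E ↘ Spec (CommRingCat.of k)) (C ↘ Spec (CommRingCat.of k)) f θ hw hfe
  have hpr : IsProper (pullback.lift θ f hw ≫ pullback.snd (E ↘ Spec (CommRingCat.of k)) (C ↘ Spec (CommRingCat.of k))) := by
    rw [pullback.lift_snd]; infer_instance
  have hfi := EtaleFib.isFinite (pullback.lift θ f hw : X ⟶ pullback (E ↘ Spec (CommRingCat.of k))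
    (C ↘ Spec (CommRingCat.of k)))
  obtain ⟨F, q, e, he⟩ := K137.ProdCov.exists_product k (E ↘ Spec (CommRingCat.of k)) (C ↘ Spec (CommRingCat.of k)) hE
    ⟨h.pC, h.sC, h.iC, h.dC⟩ hC0 (pullback.lift θ f hw)
  exact ⟨F, q, e, he.trans (pullback.lift_snd _ _ _)⟩

end K379.Product
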