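import Groth.Agent.Surf.K379.Main2
import Groth.Agent.Surf.K379.Product
import Groth.Agent.Surf.K379.AlbCurve
import Groth.Agent.Surf.K379.PicDim
import Groth.Agent.Surf.K159.Lat
import Groth.Agent.Surf.K78.HOne
import Groth.Agent.Surf.K947.GenusPic
import Groth.Agent.Surf.K980.SameGenus
import Groth.Agent.Surf.K997.Pg
import Groth.Agent.Surf.K456.AmpleEx
import Groth.Agent.Biell.K856.BettiX

/-!
# Semistable fibrations over a rational curve in characteristic zero: at least four singular fibres or a product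
-/

set_option autoImplicit false
universe u
open CategoryTheory CategoryTheory.Limits AlgebraicGeometry Opposite TopologicalSpace
open MonoidalCategory CartesianMonoidalCategory

namespace K379.Final

open Groth.Agent Groth.Agent.Grpsch.PicGrp K856.PicA K379.Fib K379.FibSmo K464.Base K464.Curves K464.Cohom

variable {k : Type u} [Field k] [IsAlgClosed k] {X C : Scheme.{u}} [X.Over (Spec (CommRingCat.of k))]
  [C.Over (Spec (CommRingCat.of k))] {f : X ⟶ C} {g : ℕ}

/-- The case `dim Pic⁰ X < g`. -/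
theorem four_le [LocallyOfFinitePresentation f] (h : IsFib k f g) (hC0 : Curv2.genus k C = 0) (D : PZ k X) {q : ℕ}
    (hq : topologicalKrullDim D.A.left = q) (hqg : q < g) :
    4 ≤ Set.ncard {c : C | IsClosed ({c} : Set C) ∧ ¬ Smooth (f.fiberToSpecResidueField c)} := by
  have i1 := h.pX
  have i2 := h.sX
  have i3 := h.iX
  have hr2 : SmoothOfRelativeDimension 2 (X ↘ Spec (CommRingCat.of k)) :=
    Picfga.CurveRelDim.smoothOfRelativeDimension_of_topologicalKrullDim_eq k X _ 2 h.dX
  obtain ⟨W, hW, hWi⟩ := Main.exists_canonical h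
  refine Main.four_le h hC0 D hq hqg (fun ℓ _ _ i => K856.BettiX.hfin (X ↘ Spec (CommRingCat.of k)) ℓ i) ?_
    (fun s hs => K580.FibMain.fibre k f g h s hs) (fun S hS => K159.Lat.rank k f g h S hS)
  intro ℓ hℓ hℓk
  rw [K856.BettiX.surface X hW ℓ hℓ.out hℓk, Main.chi_eq h hC0 hW hWi]

/-- The case `dim Pic⁰ X = g`. -/
theorem product [CharZero k] [LocallyOfFinitePresentation f] [IsProper (X ↘ Spec (CommRingCat.of k))]
    (E1a : Subsingleton (Coh.HH X (Coh.structureModule X) 2) →
      ∀ (A : Over (Spec (CommRingCat.of k))) [GrpObj A] [IsProper A.hom] [Smooth A.hom] [ConnectedSpace A.left]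
      (ψ : X ⟶ A.left) (_ : ψ ≫ A.hom = X ↘ Spec (CommRingCat.of k)), topologicalKrullDim (Set.range ψ) ≤ 1)
    (h : IsFib k f g)
    (hC0 : Curv2.genus k C = 0) (hg1 : 1 ≤ g) (hmin : Min k f) (hX : ∃ H : X.Modules, CohB1.IsAmple H) (D : PZ k X)
    (hq : topologicalKrullDim D.A.left = g) :
    ∃ (F : Scheme.{u}) (q : F ⟶ Spec (CommRingCat.of k)) (e : X ≅ pullback q (C ↘ Spec (CommRingCat.of k))),
      e.hom ≫ pullback.snd q (C ↘ Spec (CommRingCat.of k)) = f := by
  have i2 := h.sX
  have i3 := h.iX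
  obtain ⟨s, hs, hsm, he⟩ := h.fib
  -- `h¹(O_X) = g = h¹(O_F)`
  have h1 : Module.finrank k (Coh.HH X (Coh.structureModule X) 1) = g := by
    have := PicDim.dim_eq D
    rw [hq] at this
    exact_mod_cast this.symm
  have h2 : Module.finrank k (Coh.HH X (ClSub.quotMod (f.fiberι s).ker) 1) = g := by
    have h3 := FibSm.genus_eq h hs hsm he
    let _ := overC k X (f.fiberι s).ker
    rw [(hhSub0 k (f.fiberι s).ker 1).finrank_eq]
    exact h3
  have hint : IsIntegral (f.fiberι s).ker.subscheme := (FibSm.isSmoothProperCurve h hs hsm).2.2.1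
  have hH := K78.HOne.hOne k X hX D (f.fiberι s).ker hint (FibSm.finite_ker h hC0 D hs hsm)
  have hpg := K997.Pg.pg k f g h hC0 s hs (h1.trans h2.symm) hH
  obtain ⟨E, hE, θ, hθ, hEc, happ, halg⟩ := AlbCurve.exists_albCurve k X (E1a hpg) D hq hg1
  have hgE := Groth.Agent.Surf.K947.GenusPic.genus_eq k D hq hEc θ hθ happ halg
  exact Product.exists_product (fun p q hF hE θ hθ hdom hg hg1 =>
    K980.SameGenus.etale_of_genus_eq k p q hF hE θ hθ hdom hg hg1) h hC0 hg1 hmin D hq hEc hgE θ hθ halg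

end K379.Final
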