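import Groth.Agent.Surf.K379.FibSm
import Groth.Agent.Surf.K464.Base
import Groth.Agent.Biell.K856.PicRank
import Groth.Agent.Biell.K856.Betti1

/-!
# At least four singular fibres when `dim Pic⁰ X < g`
-/

set_option autoImplicit false
universe u
open CategoryTheory CategoryTheory.Limits AlgebraicGeometry Opposite TopologicalSpace
open MonoidalCategory CartesianMonoidalCategory

namespace K379.Main

open Groth.Agent Groth.Agent.Grpsch.PicGrp K856.PicA K379.Fib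

theorem arith {σ : Type*} (S : Finset σ) (a v G : σ → ℕ) (q g b r : ℕ)
    (hr : (r : ℤ) = 2 + ∑ s ∈ S, ((v s : ℤ) - 1)) (hrb : r ≤ b)
    (he : (2 : ℤ) - 2 * (2 * q) + b = (2 - 2 * g) * 2 + ∑ s ∈ S, (a s : ℤ))
    (hG : ∀ s ∈ S, g + v s = G s + a s + 1) (hq : ∀ s ∈ S, q ≤ G s) (hqg : q < g) : 4 ≤ S.card := by
  have h0 : ∑ s ∈ S, ((a s : ℤ) - ((v s : ℤ) - 1)) = ∑ s ∈ S, (a s : ℤ) - ∑ s ∈ S, ((v s : ℤ) - 1) :=
    Finset.sum_sub_distrib _ _
  have h1 : 4 * ((g : ℤ) - q) ≤ ∑ s ∈ S, ((a s : ℤ) - ((v s : ℤ) - 1)) := by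
    have : (r : ℤ) ≤ b := by exact_mod_cast hrb
    rw [h0]
    linarith
  have h2 : ∑ s ∈ S, ((a s : ℤ) - ((v s : ℤ) - 1)) ≤ ∑ s ∈ S, ((g : ℤ) - q) := by
    refine Finset.sum_le_sum fun s hs => ?_
    have h3 := hG s hs
    have h4 := hq s hs
    omega
  rw [Finset.sum_const, nsmul_eq_mul] at h2
  have h5 : (0 : ℤ) < (g : ℤ) - q := by
    have : (q : ℤ) < g := by exact_mod_cast hqg
    linarith
  have h6 : 4 * ((g : ℤ) - q) ≤ (S.card : ℤ) * ((g : ℤ) - q) := h1.trans h2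
  have h7 : (4 : ℤ) ≤ S.card := le_of_mul_le_mul_right h6 h5
  exact_mod_cast h7

variable {k : Type u} [Field k] [IsAlgClosed k] {X C : Scheme.{u}} [X.Over (Spec (CommRingCat.of k))]
  [C.Over (Spec (CommRingCat.of k))] {f : X ⟶ C} {g : ℕ}

theorem four_le [LocallyOfFinitePresentation f] (h : IsFib k f g) (hC0 : Curv2.genus k C = 0) (D : PZ k X) {q : ℕ}
    (hq : topologicalKrullDim D.A.left = q) (hqg : q < g)
    (hfin : ∀ (ℓ : ℕ) [Fact ℓ.Prime], (ℓ : k) ≠ 0 → ∀ i, Finite (EtAdic.Hmod X ℓ i 1))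
    (hnum : ∀ (ℓ : ℕ) [Fact ℓ.Prime], (ℓ : k) ≠ 0 →
      (2 : ℤ) - 2 * (EtAdic.betti X ℓ 1 : ℤ) + EtAdic.betti X ℓ 2 =
        (2 - 2 * g) * 2 + Nat.card ↥((f.smoothLocus : Set X)ᶜ))
    (hfib : ∀ s : C, IsClosed ({s} : Set C) → 
      ∃ (ι : Type) (_ : Fintype ι) (N : ι → Scheme.{u}) (n : ∀ i, N i ⟶ X),
        (∀ i, Curve.IsSmoothProperCurve k (N i) (n i ≫ (X ↘ Spec (CommRingCat.of k)))) ∧
        (∀ x : X, f x = s ↔ ∃ i, x ∈ Set.range (n i)) ∧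
        g + (vc f s).ncard = (∑ i, @Curv2.genus k _ (N i) ⟨n i ≫ (X ↘ Spec (CommRingCat.of k))⟩) +
          (sg f s).ncard + 1)
    (hrank : ∀ (S : Finset C), (∀ s ∈ S, IsClosed ({s} : Set C)) →
      ∃ (r : ℕ) (L : Fin r → Pic X), (Matrix.of fun i j => K464.Base.dot k X (L i) (L j)).det ≠ 0 ∧
        (r : ℤ) = 2 + ∑ s ∈ S, (((vc f s).ncard : ℤ) - 1)) :
    4 ≤ Set.ncard {c : C | IsClosed ({c} : Set C) ∧ ¬ Smooth (f.fiberToSpecResidueField c)} := by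
  classical
  obtain ⟨hS, hcard⟩ := K627.SurfFin.card_sing h
  have hS' := hcard hS.toFinset (fun c => by rw [Set.Finite.mem_toFinset]; exact Iff.rfl)
  obtain ⟨r, L, hdet, hr⟩ := hrank hS.toFinset (fun s hs => ((Set.Finite.mem_toFinset hS).1 hs).1)
  have hpX := h.pX
  have hsX := h.sX
  have hiX := h.iX
  obtain ⟨ℓ, hℓ, hℓk, hle⟩ := K856.PicRank.rank_le_betti k X h.dX.le L hdet
  have : Fact ℓ.Prime := ⟨hℓ⟩
  have hle' := hle (hfin ℓ hℓk)
  have hb1 := K856.Betti1.betti_one D ℓ hℓk (hfin ℓ hℓk) q hq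
  have he := hnum ℓ hℓk
  rw [hb1, hS'] at he
  have key : ∀ s : C, ∃ G : ℕ, IsClosed ({s} : Set C) →
      (g + (vc f s).ncard = G + (sg f s).ncard + 1 ∧ q ≤ G) := by
    intro s
    by_cases hs : IsClosed ({s} : Set C)
    · obtain ⟨ι, _, N, n, hN, hcov, hg⟩ := hfib s hs
      refine ⟨_, fun _ => ⟨hg, ?_⟩⟩
      have h1 := FibE.dim_le h hC0 D s N n hN (fun x hx => (hcov x).1 hx)
      rw [hq] at h1
      exact_mod_cast h1
    · exact ⟨0, fun h' => absurd h' hs⟩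
  choose G hG using key
  rw [Set.ncard_eq_toFinset_card _ hS]
  refine arith hS.toFinset (fun s => (sg f s).ncard) (fun s => (vc f s).ncard) G q g
    (EtAdic.betti X ℓ 2) r hr hle' (by push_cast at he ⊢; exact he) ?_ ?_ hqg
  · intro s hs
    exact (hG s ((Set.Finite.mem_toFinset hS).1 hs).1).1
  · intro s hs
    exact (hG s ((Set.Finite.mem_toFinset hS).1 hs).1).2

end K379.Main
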