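import Groth.Agent.Surf.K379.Main
import Groth.Agent.Surf.K172.Num
import Groth.Agent.Surf.K993.MilnorSum
import Groth.Agent.Surf.K455.Canon

/-!
# The topological Euler characteristic of a semistable fibration over a rational curve
-/

set_option autoImplicit false
set_option linter.unusedSectionVars false
universe u
open CategoryTheory CategoryTheory.Limits AlgebraicGeometry Opposite TopologicalSpace
open MonoidalCategory CartesianMonoidalCategory

namespace K379.Main

open Groth.Agent Groth.Agent.Grpsch.PicGrp K856.PicA K379.Fib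

variable {k : Type u} [Field k] [IsAlgClosed k] {X C : Scheme.{u}} [X.Over (Spec (CommRingCat.of k))]
  [C.Over (Spec (CommRingCat.of k))] {f : X ⟶ C} {g : ℕ}

theorem exists_canonical (h : IsFib k f g) : ∃ W : X.Modules,
    ExtPow.IsExtPow 2 (Omega.sheaf (X ↘ Spec (CommRingCat.of k))) W ∧ PicF.IsInvertible W := by
  have i2 := h.sX
  have i1 := h.pX
  have i3 := h.iX
  have hr2 : SmoothOfRelativeDimension 2 (X ↘ Spec (CommRingCat.of k)) :=
    Picfga.CurveRelDim.smoothOfRelativeDimension_of_topologicalKrullDim_eq k X _ 2 h.dX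
  exact K455.Canon.exists_canonical _ 2

theorem chi_eq [LocallyOfFinitePresentation f] (h : IsFib k f g) (hC0 : Curv2.genus k C = 0) {W : X.Modules}
    (hW : ExtPow.IsExtPow 2 (Omega.sheaf (X ↘ Spec (CommRingCat.of k))) W) (hWi : PicF.IsInvertible W) :
    Curv2.euler k X (Coh.structureModule X) - Curv2.euler k X (Omega.sheaf (X ↘ Spec (CommRingCat.of k))) +
      Curv2.euler k X W = (2 - 2 * g) * 2 + Nat.card ↥((f.smoothLocus : Set X)ᶜ) := by
  have i1 := h.pX
  have i2 := h.sX
  have i3 := h.iX
  have i4 := h.pC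
  have i5 := h.sC
  have i6 := h.iC
  have i7 := h.sur
  have hdom : IsDominant f := ⟨i7.surj.denseRange⟩
  obtain ⟨q, hq, hsm, hg⟩ := h.fib
  rw [K993.MilnorSum.c_formula k f h.ovr h.dX h.dC hW hWi h.nod hq hsm hg, K172.Num.euler_curve k h.dC hC0]
  ring

end K379.Main
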