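import Groth.Agent.AbSch.K449.Rigid
import Groth.Agent.AbVar.K505.Ext
import Groth.Agent.AbVar.K517.P1Const
import Groth.Agent.CurvSt.K896.TailBridge
import Groth.Agent.Curves.K251.GenusZeroField

/-!
# Morphisms from a fibration over a rational curve to an abelian variety

* `const_of_genus_zero`: morphisms from a proper curve of genus zero to a group scheme are constant;
* `const_of_fibre`: `f : X ⟶ C` proper with `O_C = f_* O_X`, `C` a smooth curve of genus zero. A morphism from `X` to a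
  proper group scheme which contracts one fibre of `f` is constant.
-/

set_option autoImplicit false
universe u
open CategoryTheory CategoryTheory.Limits AlgebraicGeometry Opposite
open MonoidalCategory CartesianMonoidalCategory

namespace K379.Rig

open Groth.Agent

variable (k : Type u) [Field k] [IsAlgClosed k]

/-- Morphisms from a proper curve of genus zero to a group scheme of finite type are constant. -/
theorem const_of_genus_zero (C : Scheme.{u}) [C.Over (Spec (CommRingCat.of k))] [IsIntegral C]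
    [IsProper (C ↘ Spec (CommRingCat.of k))] (hdim : topologicalKrullDim C = 1) (hg : Curv2.genus k C = 0)
    (B : Over (Spec (CommRingCat.of k))) [GrpObj B] [LocallyOfFiniteType B.hom] [QuasiCompact B.hom]
    (φ : C ⟶ B.left) (hφ : φ ≫ B.hom = C ↘ Spec (CommRingCat.of k)) :
    ∃ σ : Spec (CommRingCat.of k) ⟶ B.left, σ ≫ B.hom = 𝟙 _ ∧ φ = (C ↘ Spec (CommRingCat.of k)) ≫ σ := by
  obtain ⟨e, he⟩ := K896.TailBridge.exists_iso_P1 k C hdim (K251.GenusZeroField.subsingleton_H1 k C hg)
  let i := CohqB.ProjBC.projSpaceOverIso 1 k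
  have hi : i.inv ≫ CohB1.ProjSpaceOver.toBase 1 _ = CohB1.ProjSpace.toSpec 1 k :=
    CohqB.ProjBC.projSpaceOverIso_inv_toBase 1 k
  have hi' : i.hom ≫ CohB1.ProjSpace.toSpec 1 k = CohB1.ProjSpaceOver.toBase 1 _ := by
    rw [← hi, Iso.hom_inv_id_assoc]
  have he' : e.inv ≫ (C ↘ Spec (CommRingCat.of k)) = CohB1.ProjSpace.toSpec 1 k := by
    rw [← he, Iso.inv_hom_id_assoc]
  obtain ⟨σ, hσ, h⟩ := K517.P1Const.exists_const k B (i.hom ≫ e.inv ≫ φ)
    (by rw [Category.assoc, Category.assoc, hφ, he', hi'])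
  refine ⟨σ, hσ, ?_⟩
  have h1 : φ = e.hom ≫ i.inv ≫ (i.hom ≫ e.inv ≫ φ) := by simp
  rw [h1, h, reassoc_of% hi, reassoc_of% he]

/-- A morphism to a proper group scheme contracting one fibre of a fibration over a curve of genus zero is
constant. -/
theorem const_of_fibre (X C : Scheme.{u}) [X.Over (Spec (CommRingCat.of k))] [C.Over (Spec (CommRingCat.of k))]
    [IsIntegral X] [IsIntegral C] [IsProper (C ↘ Spec (CommRingCat.of k))] [Smooth (C ↘ Spec (CommRingCat.of k))]
    (hdim : topologicalKrullDim C = 1) (hg : Curv2.genus k C = 0)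
    (f : X ⟶ C) [f.IsOver (Spec (CommRingCat.of k))] (hf : IsClosedMap f) [Surjective f]
    (hO : ∀ V : C.Opens, IsIso (f.app V))
    (B : Over (Spec (CommRingCat.of k))) [GrpObj B] [IsProper B.hom]
    (ψ : X ⟶ B.left) (hψ : ψ ≫ B.hom = X ↘ Spec (CommRingCat.of k)) (s : C) (y : B.left)
    (hy : ∀ x : X, f x = s → ψ x = y) :
    ∃ σ : Spec (CommRingCat.of k) ⟶ B.left, σ ≫ B.hom = 𝟙 _ ∧ ψ = (X ↘ Spec (CommRingCat.of k)) ≫ σ := by
  have hBs : B.left.IsSeparated := by
    constructor
    rw [← terminal.comp_from B.hom]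
    infer_instance
  have hfk : f ≫ (C ↘ Spec (CommRingCat.of k)) = X ↘ Spec (CommRingCat.of k) := comp_over f _
  obtain ⟨U, hsU, g, hgU⟩ := K449.Rigid.exists_open_of_fibre f hf hO ψ s y hy
  have hsur : Surjective (f ∣_ U) := MorphismProperty.of_isPullback (isPullback_morphismRestrict f U).flip ‹Surjective f›
  have hdom : IsDominant (f ∣_ U) := inferInstance
  have hg' : g ≫ B.hom = U.ι ≫ (C ↘ Spec (CommRingCat.of k)) := by
    refine ext_of_isDominant (f ∣_ U) ?_
    rw [← Category.assoc, ← hgU, Category.assoc, hψ, ← Category.assoc, morphismRestrict_ι, Category.assoc, hfk]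
  obtain ⟨g', hg1, hg2⟩ := K505.Ext.exists_extension C (C ↘ Spec (CommRingCat.of k)) B U ⟨s, hsU⟩ g hg'
  have hne : ((f ⁻¹ᵁ U : X.Opens) : Set X).Nonempty := by
    obtain ⟨x, hx⟩ := f.surjective s
    exact ⟨x, by
      change f x ∈ U
      rw [hx]; exact hsU⟩
  have hd : IsDominant (f ⁻¹ᵁ U).ι := ⟨by
    rw [DenseRange, Scheme.Opens.range_ι]
    exact (f ⁻¹ᵁ U).2.dense hne⟩
  have hfg : ψ = f ≫ g' := by
    refine ext_of_isDominant (f ⁻¹ᵁ U).ι ?_
    rw [hgU, ← morphismRestrict_ι_assoc, hg2]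
  obtain ⟨σ, hσ, h⟩ := const_of_genus_zero k C hdim hg B g' hg1
  exact ⟨σ, hσ, by rw [hfg, h, reassoc_of% hfk]⟩

end K379.Rig
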